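import Mathlib

/-!
# Recognition of `PGL_2(q)` by spectrum: the situation of the simple section (helper369)

`G` has the spectrum of `PGL_2(q)`, `q = p ^ m` odd, `m ≥ 2`, `q ≠ 9`; `K` its solvable radical, `X = G / K ≤ Aut S`.
`Sit S p m X` collects everything the rows (one for each family of simple groups `S`) may use.

* `nn q` : the odd one of `(q - 1) / 2`, `(q + 1) / 2`;  `mm q` : the one of `q - 1`, `q + 1` divisible by 4.
* `Sit.iso` : `p` is isolated of exponent `p`;
* `Sit.kill` : some `x ∈ X` has `q - 1 ≤ 2 * orderOf x`;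
* `Sit.three` : if `S` has an element of order 12 and noncyclic Sylow 3-subgroups then `X` has an element of odd
  order `n`, `q - 1 ≤ 2 * n`, no element of `S` has an order divisible by `3 * s` or `4 * s`, `s` a prime divisor of `n`.
-/

set_option autoImplicit false

namespace Cfsg.Agent.H369.Pgl

open Subgroup

/-- the odd one of `(q - 1) / 2`, `(q + 1) / 2` -/
def nn (q : ℕ) : ℕ := if q % 4 = 1 then (q + 1) / 2 else (q - 1) / 2

/-- the one of `q - 1`, `q + 1` divisible by 4 -/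
def mm (q : ℕ) : ℕ := if q % 4 = 1 then q - 1 else q + 1

theorem odd_cases {q : ℕ} (hq : q % 2 = 1) : (q % 4 = 1 ∧ nn q = (q + 1) / 2 ∧ mm q = q - 1) ∨
    (q % 4 = 3 ∧ nn q = (q - 1) / 2 ∧ mm q = q + 1) := by
  unfold nn mm
  have h : q % 4 = 1 ∨ q % 4 = 3 := by omega
  rcases h with h | h
  · exact Or.inl ⟨h, by rw [if_pos h], by rw [if_pos h]⟩
  · have h1 : ¬ q % 4 = 1 := by omega
    exact Or.inr ⟨h, by rw [if_neg h1], by rw [if_neg h1]⟩

theorem nn_odd {q : ℕ} (hq : q % 2 = 1) : nn q % 2 = 1 := by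
  rcases odd_cases hq with ⟨h1, h2, h3⟩ | ⟨h1, h2, h3⟩ <;> rw [h2] <;> omega

theorem le_two_nn {q : ℕ} (hq : q % 2 = 1) : q - 1 ≤ 2 * nn q := by
  rcases odd_cases hq with ⟨h1, h2, h3⟩ | ⟨h1, h2, h3⟩ <;> rw [h2] <;> omega

theorem four_dvd_mm {q : ℕ} (hq : q % 2 = 1) : 4 ∣ mm q := by
  rcases odd_cases hq with ⟨h1, h2, h3⟩ | ⟨h1, h2, h3⟩ <;> rw [h3] <;> omega

theorem le_mm {q : ℕ} (hq : q % 2 = 1) : q - 1 ≤ mm q := by
  rcases odd_cases hq with ⟨h1, h2, h3⟩ | ⟨h1, h2, h3⟩ <;> rw [h3] <;> omega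

theorem two_nn_mm {q : ℕ} (hq : q % 2 = 1) : (2 * nn q = q + 1 ∧ mm q = q - 1) ∨ (2 * nn q = q - 1 ∧ mm q = q + 1) := by
  rcases odd_cases hq with ⟨h1, h2, h3⟩ | ⟨h1, h2, h3⟩
  · rw [h2, h3]; omega
  · rw [h2, h3]; omega

/-- `gcd (nn q) (mm q) = 1` -/
theorem coprime_nn_mm {q : ℕ} (hq : q % 2 = 1) : (nn q).Coprime (mm q) := by
  rw [Nat.coprime_iff_gcd_eq_one]
  set g := Nat.gcd (nn q) (mm q) with hg
  have h1 : g ∣ nn q := Nat.gcd_dvd_left _ _
  have h2 : g ∣ mm q := Nat.gcd_dvd_right _ _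
  have h1' : g ∣ 2 * nn q := h1.mul_left 2
  have hg2 : g ∣ 2 := by
    rcases two_nn_mm hq with ⟨h3, h4⟩ | ⟨h3, h4⟩
    · have h5 : g ∣ 2 * nn q - mm q := Nat.dvd_sub h1' h2
      have h6 : 2 * nn q - mm q = 2 := by omega
      rwa [h6] at h5
    · have h5 : g ∣ mm q - 2 * nn q := Nat.dvd_sub h2 h1'
      have h6 : mm q - 2 * nn q = 2 := by omega
      rwa [h6] at h5
  rcases (Nat.dvd_prime Nat.prime_two).1 hg2 with h | h
  · exact h
  · exfalso
    have h3 : 2 ∣ nn q := h ▸ h1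
    have := nn_odd hq
    omega

/-- The situation of the simple section `S` of a group with the spectrum of `PGL_2(p ^ m)`; `X ≤ Aut S` is the group
`G / K`. -/
structure Sit (S : Type*) [Group S] (p m : ℕ) (X : Subgroup (MulAut S)) : Prop where
  hp : p.Prime
  hp2 : p ≠ 2
  hm : 2 ≤ m
  h9 : p ^ m ≠ 9
  dvd : p ∣ Nat.card S
  inn : ∀ g : S, MulAut.conj g ∈ X
  spec : ∀ x ∈ X, orderOf x ∣ p ∨ orderOf x ∣ p ^ m - 1 ∨ orderOf x ∣ p ^ m + 1
  /-- either an element of order `nn q` of `G` survives in `X`, or (the radical has a prime divisor dividing `nn q`)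
  an element of order `mm q` or `mm q / 2` does, and the Sylow subgroups of `S` for the odd primes not dividing `nn q`
  are cyclic -/
  cases : (∃ x ∈ X, orderOf x = nn (p ^ m)) ∨
    ((∃ x ∈ X, orderOf x = mm (p ^ m) ∨ 2 * orderOf x = mm (p ^ m)) ∧
      ∀ s : ℕ, s.Prime → (s = p ∨ s ≠ 2 ∧ s ∣ mm (p ^ m)) → ∀ P : Sylow s S, IsCyclic P)

/-- the conclusion of the rows: `S` is `PSL_2(p ^ k)` -/
def Goal (S : Type*) [Group S] (p : ℕ) : Prop :=
  ∃ (F : Type) (_ : Field F) (_ : Fintype F) (k : ℕ), Fintype.card F = p ^ k ∧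
    Nonempty (S ≃* Matrix.ProjectiveSpecialLinearGroup (Fin 2) F)

theorem conj_injective_of_center {S : Type*} [Group S] (hc : center S = ⊥) :
    Function.Injective (MulAut.conj : S →* MulAut S) := by
  rw [injective_iff_map_eq_one]
  intro x hx
  have h : x ∈ center S := by
    rw [mem_center_iff]
    intro y
    have h1 := congrArg (fun α : MulAut S => α y) hx
    simp only [MulAut.conj_apply, MulAut.one_apply] at h1
    exact (mul_inv_eq_iff_eq_mul.1 h1).symm
  rw [hc] at h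
  exact mem_bot.1 h

namespace Sit

variable {S : Type*} [Group S] {p m : ℕ} {X : Subgroup (MulAut S)}

theorem odd (H : Sit S p m X) : p ^ m % 2 = 1 := by
  have h : Odd (p ^ m) := (H.hp.odd_of_ne_two H.hp2).pow
  exact Nat.odd_iff.1 h

theorem sq_le (H : Sit S p m X) : p ^ 2 ≤ p ^ m := Nat.pow_le_pow_right H.hp.pos H.hm

theorem three_le (H : Sit S p m X) : 3 ≤ p := by
  have h1 := H.hp.two_le
  have h2 := H.hp2
  omega

/-- `q ≥ 25` -/
theorem le_q (H : Sit S p m X) : 25 ≤ p ^ m := by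
  have h3 := H.three_le
  by_cases h5 : 5 ≤ p
  · calc 25 = 5 ^ 2 := rfl
      _ ≤ p ^ 2 := Nat.pow_le_pow_left h5 2
      _ ≤ p ^ m := H.sq_le
  · have h4 : p = 3 := by
      have : p ≠ 4 := by
        intro h
        have := H.hp
        rw [h] at this
        exact absurd this (by decide)
      omega
    have hm3 : 3 ≤ m := by
      have := H.hm
      have h9 := H.h9
      by_contra hcon
      have h2 : m = 2 := by omega
      rw [h4, h2] at h9
      exact h9 rfl
    rw [h4]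
    calc 25 ≤ 3 ^ 3 := by norm_num
      _ ≤ 3 ^ m := Nat.pow_le_pow_right (by norm_num) hm3

/-- transport along an isomorphism -/
theorem congr (H : Sit S p m X) {T : Type*} [Group T] (e : S ≃* T) :
    Sit T p m (X.map (MulAut.congr e).toMonoidHom) where
  hp := H.hp
  hp2 := H.hp2
  hm := H.hm
  h9 := H.h9
  dvd := by rw [← Nat.card_congr e.toEquiv]; exact H.dvd
  inn := by
    intro g
    refine ⟨MulAut.conj (e.symm g), H.inn _, ?_⟩
    apply MulEquiv.ext
    intro y
    change e (MulAut.conj (e.symm g) (e.symm y)) = MulAut.conj g y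
    rw [MulAut.conj_apply, MulAut.conj_apply, map_mul, map_mul, map_inv, e.apply_symm_apply, e.apply_symm_apply]
  spec := by
    rintro _ ⟨x, hx, rfl⟩
    have h : orderOf ((MulAut.congr e).toMonoidHom x) = orderOf x :=
      orderOf_injective (MulAut.congr e).toMonoidHom (MulAut.congr e).injective x
    rw [h]
    exact H.spec x hx
  cases := by
    have key : ∀ x : MulAut S, orderOf ((MulAut.congr e).toMonoidHom x) = orderOf x :=
      fun x => orderOf_injective (MulAut.congr e).toMonoidHom (MulAut.congr e).injective x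
    rcases H.cases with ⟨x, hx, hxo⟩ | ⟨⟨x, hx, hxo⟩, hs⟩
    · exact Or.inl ⟨_, ⟨x, hx, rfl⟩, by rw [key, hxo]⟩
    · refine Or.inr ⟨⟨_, ⟨x, hx, rfl⟩, by rw [key]; exact hxo⟩, ?_⟩
      intro s hsp hsm P
      have hinj : Function.Injective e.toMonoidHom := e.injective
      have := Fact.mk hsp
      let Q : Sylow s S := P.comapOfInjective e.toMonoidHom hinj
        (by rw [MonoidHom.range_eq_top.2 e.surjective]; exact le_top)
      have hQ : IsCyclic Q := hs s hsp hsm Q
      have hQP : (Q : Subgroup S).map e.toMonoidHom = P := by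
        change ((P : Subgroup T).comap e.toMonoidHom).map e.toMonoidHom = P
        exact Subgroup.map_comap_eq_self_of_surjective e.surjective _
      have h1 : IsCyclic ((Q : Subgroup S).map e.toMonoidHom) :=
        isCyclic_of_surjective ((Q : Subgroup S).equivMapOfInjective e.toMonoidHom hinj)
          ((Q : Subgroup S).equivMapOfInjective e.toMonoidHom hinj).surjective
      rw [hQP] at h1
      exact h1

end Sit

theorem Goal.congr {S T : Type*} [Group S] [Group T] (e : S ≃* T) {p : ℕ} (h : Goal T p) : Goal S p := by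
  obtain ⟨F, i1, i2, k, hk, ⟨e'⟩⟩ := h
  exact ⟨F, i1, i2, k, hk, ⟨e.trans e'⟩⟩

namespace Sit

variable {S : Type*} [Group S] [Finite S] {p m : ℕ} {X : Subgroup (MulAut S)}

section simple
variable [IsSimpleGroup S] (hna : ¬ IsMulCommutative S) (H : Sit S p m X)
include hna

omit [Finite S] in
theorem conj_inj : Function.Injective (MulAut.conj : S →* MulAut S) := by
  apply conj_injective_of_center
  rcases (inferInstance : (center S).Normal).eq_bot_or_eq_top with h | h
  · exact h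
  · exfalso
    apply hna
    refine ⟨⟨fun a b => ?_⟩⟩
    have : a ∈ center S := by rw [h]; exact mem_top a
    exact (mem_center_iff.1 this b).symm

omit [Finite S] in
theorem orderOf_conj (g : S) : orderOf (MulAut.conj g) = orderOf g :=
  orderOf_injective MulAut.conj (conj_inj hna) g

include H

omit [Finite S] in
/-- the spectrum of `S` -/
theorem specS (g : S) : orderOf g ∣ p ∨ orderOf g ∣ p ^ m - 1 ∨ orderOf g ∣ p ^ m + 1 := by
  have h := H.spec _ (H.inn g)
  rwa [orderOf_conj hna g] at h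

omit [IsSimpleGroup S] [Finite S] hna in
/-- `p` is isolated of exponent `p` in `X` -/
theorem isoX {x : MulAut S} (hx : x ∈ X) (hpx : p ∣ orderOf x) : orderOf x = p := by
  have hq1 : 1 ≤ p ^ m := Nat.one_le_pow _ _ H.hp.pos
  have hpq : p ∣ p ^ m := dvd_pow_self p (by have := H.hm; omega)
  rcases H.spec x hx with h | h | h
  · exact Nat.dvd_antisymm h hpx
  · exfalso
    have h1 : p ∣ p ^ m - 1 := hpx.trans h
    have h2 : p ∣ p ^ m - (p ^ m - 1) := Nat.dvd_sub hpq h1
    have h3 : p ^ m - (p ^ m - 1) = 1 := by omega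
    rw [h3] at h2
    exact H.hp.one_lt.ne' (Nat.dvd_one.1 h2)
  · exfalso
    have h1 : p ∣ p ^ m + 1 := hpx.trans h
    have h2 : p ∣ 1 := (Nat.dvd_add_right hpq).1 h1
    exact H.hp.one_lt.ne' (Nat.dvd_one.1 h2)

omit [Finite S] in
/-- `p` is isolated of exponent `p` in `S` -/
theorem iso {g : S} (hg : p ∣ orderOf g) : orderOf g = p := by
  have h := H.isoX (H.inn g) (by rwa [orderOf_conj hna g])
  rwa [orderOf_conj hna g] at h

omit [Finite S] in
/-- the primes of `S` -/
theorem prime_dvd [Finite S] {s : ℕ} (hs : s.Prime) (hsS : s ∣ Nat.card S) : s = p ∨ s ∣ p ^ m - 1 ∨ s ∣ p ^ m + 1 := by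
  have := Fact.mk hs
  obtain ⟨g, hg⟩ := exists_prime_orderOf_dvd_card' s hsS
  rcases H.specS hna g with h | h | h
  · left
    rw [hg] at h
    exact ((Nat.prime_dvd_prime_iff_eq hs H.hp).1 h)
  · right; left; rwa [hg] at h
  · right; right; rwa [hg] at h

omit [Finite S] in
/-- no element of order divisible by `p * r` -/
theorem not_adj {r : ℕ} (hr : 2 ≤ r) {g : S} (h : p * r ∣ orderOf g) : False := by
  have h1 := H.iso hna ((Dvd.intro _ rfl).trans h)
  rw [h1] at h
  have h2 := Nat.le_of_dvd H.hp.pos h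
  have h3 := H.hp.pos
  nlinarith

omit [IsSimpleGroup S] [Finite S] hna in
/-- **some element of `X` has order at least `(q - 1) / 2`** -/
theorem kill : ∃ x ∈ X, p ^ m - 1 ≤ 2 * orderOf x := by
  rcases H.cases with ⟨x, hx, hxo⟩ | ⟨⟨x, hx, hxo⟩, -⟩
  · exact ⟨x, hx, by rw [hxo]; exact le_two_nn H.odd⟩
  · refine ⟨x, hx, ?_⟩
    have := le_mm H.odd
    rcases hxo with h | h <;> omega

omit [IsSimpleGroup S] [Finite S] hna in
/-- **some element of `X` has order at least `(p ^ 2 - 1) / 2`** -/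
theorem kill' : ∃ x ∈ X, p ^ 2 - 1 ≤ 2 * orderOf x := by
  obtain ⟨x, hx, h⟩ := H.kill
  have := H.sq_le
  exact ⟨x, hx, by omega⟩

omit [IsSimpleGroup S] [Finite S] hna in
theorem nn_pos : 0 < nn (p ^ m) := by
  have h1 := le_two_nn H.odd
  have h2 := H.le_q
  omega

omit [IsSimpleGroup S] [Finite S] hna in
/-- the orders of the elements of `X`: a number prime to `2` and `nn`, or prime to `p` and `mm` up to 2 -/
theorem orderX {x : MulAut S} (hx : x ∈ X) :
    orderOf x ∣ p ∨ orderOf x ∣ mm (p ^ m) ∨ orderOf x ∣ 2 * nn (p ^ m) := by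
  rcases H.spec x hx with h | h | h
  · exact Or.inl h
  · rcases two_nn_mm H.odd with ⟨h1, h2⟩ | ⟨h1, h2⟩
    · right; left; rwa [h2]
    · right; right; rwa [h1]
  · rcases two_nn_mm H.odd with ⟨h1, h2⟩ | ⟨h1, h2⟩
    · right; right; rwa [h1]
    · right; left; rwa [h2]

omit [IsSimpleGroup S] [Finite S] hna in
theorem not_dvd_nn : ¬ p ∣ nn (p ^ m) := by
  intro h
  have hpq : p ∣ p ^ m := dvd_pow_self p (by have := H.hm; omega)
  have h3 := H.three_le
  have hq := H.le_q
  rcases two_nn_mm H.odd with ⟨h1, -⟩ | ⟨h1, -⟩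
  · have h4 : p ∣ p ^ m + 1 := by rw [← h1]; exact h.mul_left 2
    have h5 := Nat.le_of_dvd one_pos ((Nat.dvd_add_right hpq).1 h4)
    omega
  · have h4 : p ∣ p ^ m - 1 := by rw [← h1]; exact h.mul_left 2
    have h5 : p ∣ p ^ m - (p ^ m - 1) := Nat.dvd_sub hpq h4
    have h6 : p ^ m - (p ^ m - 1) = 1 := by omega
    rw [h6] at h5
    have h7 := Nat.le_of_dvd one_pos h5
    omega

omit [IsSimpleGroup S] [Finite S] hna in
/-- no element of `X` of order divisible by `s * r`, `s` a prime divisor of `nn`, `r ≠ 1` a divisor of `mm`,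
`r ≠ 2` -/
theorem not_mul {s r : ℕ} (hs : s.Prime) (hsn : s ∣ nn (p ^ m)) (hr1 : r ≠ 1) (hr2 : r ≠ 2) (hr : r ∣ mm (p ^ m))
    {x : MulAut S} (hx : x ∈ X) (h : s * r ∣ orderOf x) : False := by
  have hodd := nn_odd H.odd
  have hcop := coprime_nn_mm H.odd
  have hs2 : s ≠ 2 := by rintro rfl; omega
  have hsr : s ∣ orderOf x := (Dvd.intro _ rfl).trans h
  have hrr : r ∣ orderOf x := (Dvd.intro_left _ rfl).trans h
  have hs1 : s ≠ 1 := hs.one_lt.ne'
  rcases H.orderX hx with h1 | h1 | h1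
  · have h2 := (Nat.prime_dvd_prime_iff_eq hs H.hp).1 (hsr.trans h1)
    rw [h2] at hsn
    exact H.not_dvd_nn hsn
  · exact hs1 (Nat.eq_one_of_dvd_coprimes hcop hsn (hsr.trans h1))
  · have h2 : r ∣ 2 * nn (p ^ m) := hrr.trans h1
    have h3 : r.Coprime (nn (p ^ m)) := (Nat.Coprime.coprime_dvd_left hr hcop.symm)
    have h4 : r ∣ 2 := h3.dvd_of_dvd_mul_right h2
    rcases (Nat.dvd_prime Nat.prime_two).1 h4 with h5 | h5
    · exact hr1 h5
    · exact hr2 h5

omit [IsSimpleGroup S] [Finite S] hna in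
theorem two_cases : (∃ x ∈ X, orderOf x = nn (p ^ m)) ∨
    (∀ s : ℕ, s.Prime → s ≠ 2 → s ∣ mm (p ^ m) → ∀ P : Sylow s S, IsCyclic P) := by
  rcases H.cases with h | ⟨-, h⟩
  · exact Or.inl h
  · exact Or.inr fun s h1 h2 h3 => h s h1 (Or.inr ⟨h2, h3⟩)

omit [Finite S] in
/-- An element of order divisible by 12 in `S`: `3` divides `mm`. -/
theorem three_dvd_mm {g : S} (hg : 12 ∣ orderOf g) : 12 ∣ mm (p ^ m) := by
  have h := H.orderX (H.inn g)
  rw [orderOf_conj hna g] at h
  have hodd := nn_odd H.odd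
  rcases h with h | h | h
  · exfalso
    have h2 : 2 ∣ p := (by norm_num : 2 ∣ 12).trans (hg.trans h)
    exact H.hp2 ((Nat.prime_dvd_prime_iff_eq Nat.prime_two H.hp).1 h2).symm
  · exact hg.trans h
  · exfalso
    have h2 : 12 ∣ 2 * nn (p ^ m) := hg.trans h
    omega

omit [Finite S] in
/-- **Row criterion.** If `S` has an element of order divisible by 12 and a noncyclic Sylow 3-subgroup then `X` has an
element of odd order `nn q ≥ (q - 1) / 2`, and `S` has no element of order divisible by `3 * s` or `4 * s`, `s` a prime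
divisor of `nn q`. -/
theorem three (h12 : ∃ g : S, 12 ∣ orderOf g) (h3 : ∃ P : Sylow 3 S, ¬ IsCyclic P) :
    ∃ x ∈ X, orderOf x = nn (p ^ m) ∧ p ^ m - 1 ≤ 2 * nn (p ^ m) ∧ ∀ s : ℕ, s.Prime → s ∣ nn (p ^ m) →
      s ≠ 2 ∧ s ≠ 3 ∧ s ≠ p ∧ ∀ g : S, ¬ s * 3 ∣ orderOf g ∧ ¬ s * 4 ∣ orderOf g := by
  obtain ⟨g, hg⟩ := h12
  have h12 := H.three_dvd_mm hna hg
  have h3m : 3 ∣ mm (p ^ m) := (by norm_num : 3 ∣ 12).trans h12
  have h4m : 4 ∣ mm (p ^ m) := (by norm_num : 4 ∣ 12).trans h12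
  obtain ⟨P, hP⟩ := h3
  rcases H.two_cases with ⟨x, hx, hxo⟩ | h
  · refine ⟨x, hx, hxo, le_two_nn H.odd, fun s hs hsn => ⟨?_, ?_, ?_, fun g => ⟨fun hg => ?_, fun hg => ?_⟩⟩⟩
    · rintro rfl
      have := nn_odd H.odd
      omega
    · rintro rfl
      have := Nat.eq_one_of_dvd_coprimes (coprime_nn_mm H.odd) hsn h3m
      omega
    · rintro rfl
      exact H.not_dvd_nn hsn
    · exact H.not_mul hs hsn (by norm_num) (by norm_num) h3m (H.inn g) (by rwa [orderOf_conj hna g])
    · exact H.not_mul hs hsn (by norm_num) (by norm_num) h4m (H.inn g) (by rwa [orderOf_conj hna g])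
  · exact absurd (h 3 Nat.prime_three (by norm_num) h3m P) hP

/-- **Row criterion, order version.** If moreover `|Aut S|` divides `A * B` and every prime divisor `s` of `A` is `2`,
`3`, `p` or adjacent to `3` in `S` (or `S` has an element of order divisible by `4 s`) then `(p ^ 2 - 1) / 2 ≤ B`. -/
theorem three_card (h12 : ∃ g : S, 12 ∣ orderOf g) (h3 : ∃ P : Sylow 3 S, ¬ IsCyclic P) {A B : ℕ}
    (hAB : Nat.card (MulAut S) ∣ A * B) (hB : 0 < B)
    (hA : ∀ s : ℕ, s.Prime → s ∣ A → s = 2 ∨ s = 3 ∨ s = p ∨ ∃ g : S, s * 3 ∣ orderOf g ∨ s * 4 ∣ orderOf g) :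
    nn (p ^ m) ∣ B ∧ p ^ m - 1 ≤ 2 * B ∧ p ^ 2 - 1 ≤ 2 * B := by
  obtain ⟨x, hx, hxo, hle, hs⟩ := H.three hna h12 h3
  have hcop : (nn (p ^ m)).Coprime A := by
    apply Nat.coprime_of_dvd
    intro s hsp hsn hsA
    obtain ⟨h1, h2, h4, h5⟩ := hs s hsp hsn
    rcases hA s hsp hsA with h | h | h | ⟨g, h | h⟩
    · exact h1 h
    · exact h2 h
    · exact h4 h
    · exact (h5 g).1 h
    · exact (h5 g).2 h
  have hdvd : nn (p ^ m) ∣ A * B := by
    rw [← hxo]
    exact (orderOf_dvd_natCard x).trans hAB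
  have h1 : nn (p ^ m) ∣ B := hcop.dvd_of_dvd_mul_left hdvd
  have h2 := Nat.le_of_dvd hB h1
  have := H.sq_le
  exact ⟨h1, by omega, by omega⟩

omit [Finite S] in
/-- an automorphism of `X` and a fixed element of `S` of coprime orders: the product is in `X` -/
theorem mul_fix {y : MulAut S} (hy : y ∈ X) {z : S} (hyz : y z = z) (hcop : (orderOf y).Coprime (orderOf z)) :
    ∃ x ∈ X, orderOf x = orderOf y * orderOf z := by
  refine ⟨y * MulAut.conj z, X.mul_mem hy (H.inn z), ?_⟩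
  have hc : Commute y (MulAut.conj z) := by
    apply MulEquiv.ext
    intro w
    change y (MulAut.conj z w) = MulAut.conj z (y w)
    rw [MulAut.conj_apply, MulAut.conj_apply, map_mul, map_mul, map_inv, hyz]
  rw [hc.orderOf_mul_eq_mul_orderOf_of_coprime (by rwa [orderOf_conj hna z]), orderOf_conj hna z]

omit [IsSimpleGroup S] hna in
/-- **Numerical criterion**, for explicit groups. -/
theorem num : nn (p ^ m) ∣ Nat.card (MulAut S) ∨
    (mm (p ^ m) ∣ 2 * Nat.card (MulAut S) ∧ ∀ s a : ℕ, s.Prime → (s = p ∨ s ≠ 2 ∧ s ∣ mm (p ^ m)) →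
      s ^ a ∣ Nat.card S → ∃ g : S, orderOf g = s ^ a) := by
  rcases H.cases with ⟨x, hx, hxo⟩ | ⟨⟨x, hx, hxo⟩, hs⟩
  · left
    rw [← hxo]
    exact orderOf_dvd_natCard x
  · right
    refine ⟨?_, ?_⟩
    · rcases hxo with h | h
      · rw [← h]
        exact (orderOf_dvd_natCard x).mul_left 2
      · rw [← h]
        exact Nat.mul_dvd_mul_left 2 (orderOf_dvd_natCard x)
    · intro s a hsp hsm ha
      have := Fact.mk hsp
      let P : Sylow s S := default
      have hP : IsCyclic P := hs s hsp hsm P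
      obtain ⟨g, hg⟩ := hP.exists_generator
      have h1 : orderOf g = Nat.card P := orderOf_eq_card_of_forall_mem_zpowers hg
      have h2 : s ^ a ∣ Nat.card P := by
        obtain ⟨Q, hQ⟩ := Sylow.exists_subgroup_card_pow_prime s ha
        have hQp : IsPGroup s Q := IsPGroup.of_card hQ
        obtain ⟨R, hR⟩ := hQp.exists_le_sylow
        rw [← hQ, ← (Sylow.equiv R P).toEquiv |> Nat.card_congr]
        exact Subgroup.card_dvd_of_le hR
      have h3 : s ^ a ∣ orderOf (g : S) := by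
        rw [Subgroup.orderOf_coe, h1]
        exact h2
      obtain ⟨c, hc⟩ := h3
      have hc0 : c ≠ 0 := by
        rintro rfl
        rw [mul_zero] at hc
        exact (orderOf_pos (g : S)).ne' hc
      refine ⟨(g : S) ^ c, ?_⟩
      rw [orderOf_pow_of_dvd hc0 (by rw [hc]; exact Dvd.intro_left _ rfl), hc, Nat.mul_div_cancel _ (Nat.pos_of_ne_zero hc0)]

end simple

end Sit

end Cfsg.Agent.H369.Pgl
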