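import Cfsg.Agent.OrdDiv.Main
import Cfsg.Agent.Lib.Zsigmondy

/-!
# Known simple groups with bounded prime divisors have bounded order (helper369, for S3445)

`exists_bound`: for every `P` there is `B` such that every known nonabelian simple group all of whose prime divisors
are at most `P` has order at most `B` (Zsigmondy primes; the hypothesis is `OrdDiv.OrderTable`, proved in
`OrdDiv.Table.table`).
-/

set_option autoImplicit false

namespace Cfsg.Agent.H369.Bound

open Cfsg Cfsg.Agent.OrdDiv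

universe u

/-- The arithmetic: the parameters `k`, `q` of a group of order `num / den`. -/
theorem par_bound {P q k c den num : ℕ} (hP : ∀ r : ℕ, r.Prime → r ∣ c → r ≤ P) (hq : IsPrimePow q) (hk : 2 ≤ k)
    (h : den * c = num) (hcop : den.Coprime q) (hqn : q ∣ num)
    (hden : ∀ r : ℕ, r.Prime → r ∣ den → ∃ j, 0 < j ∧ j < k ∧ r ∣ q ^ j - 1)
    (hnum : ∃ j, 0 < j ∧ j < k ∧ q ^ k - 1 ∣ num * (q ^ j - 1)) : k ≤ max P 6 ∧ q ≤ P ^ max P 6 := by
  obtain ⟨p, f, hp, hf, rfl⟩ := hq
  rw [← Nat.prime_iff] at hp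
  have hpc : p ∣ c := by
    have h1 : p ∣ den * c := by rw [h]; exact (dvd_pow_self p hf.ne').trans hqn
    rcases hp.dvd_mul.1 h1 with h2 | h2
    · exfalso
      have h3 : p ∣ Nat.gcd den (p ^ f) := Nat.dvd_gcd h2 (dvd_pow_self p hf.ne')
      rw [Nat.Coprime.gcd_eq_one hcop] at h3
      exact hp.one_lt.ne' (Nat.dvd_one.1 h3)
    · exact h2
  have hpP : p ≤ P := hP p hp hpc
  have hP2 : 2 ≤ P := hp.two_le.trans hpP
  have hm : f * k ≤ max P 6 := by
    by_contra hcon
    push Not at hcon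
    have hm6 : 6 < f * k := lt_of_le_of_lt (le_max_right _ _) hcon
    have hmP : P < f * k := lt_of_le_of_lt (le_max_left _ _) hcon
    obtain ⟨r, hr, h1, h2, h3⟩ := Cfsg.Agent.Lib.Zsigmondy.exists_primitive (a := p) (n := f * k) hp.two_le
      (by omega) (by omega) (by omega)
    have hrk : r ∣ (p ^ f) ^ k - 1 := by
      rw [← pow_mul, h1]
    have hrj : ∀ j, 0 < j → j < k → ¬ r ∣ (p ^ f) ^ j - 1 := by
      intro j hj hjk h4
      rw [← pow_mul, h1] at h4
      have h5 := Nat.le_of_dvd (Nat.mul_pos hf hj) h4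
      exact absurd h5 (not_le.2 (Nat.mul_lt_mul_of_pos_left hjk hf))
    obtain ⟨j, hj, hjk, hnj⟩ := hnum
    have h4 : r ∣ num := by
      rcases hr.dvd_mul.1 (hrk.trans hnj) with h5 | h5
      · exact h5
      · exact absurd h5 (hrj j hj hjk)
    rw [← h] at h4
    rcases hr.dvd_mul.1 h4 with h5 | h5
    · obtain ⟨i, hi, hik, h6⟩ := hden r hr h5
      exact hrj i hi hik h6
    · have h6 := hP r hr h5
      have h7 := Nat.le_of_dvd (by have := hr.two_le; omega) h2
      have := hr.two_le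
      omega
  refine ⟨?_, ?_⟩
  · calc k = 1 * k := (one_mul k).symm
      _ ≤ f * k := Nat.mul_le_mul_right _ hf
      _ ≤ _ := hm
  · calc p ^ f ≤ P ^ f := Nat.pow_le_pow_left hpP f
      _ ≤ P ^ max P 6 := Nat.pow_le_pow_right (by omega) (by
          calc f = f * 1 := (mul_one f).symm
            _ ≤ f * k := Nat.mul_le_mul_left _ (by omega)
            _ ≤ _ := hm)

/-- the bound for one family -/
def fb (D : Fam) (M Q : ℕ) : ℕ := ∑ n ∈ Finset.range (M + 1), ∑ q ∈ Finset.range (Q + 1), D.num n q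

theorem le_fb (D : Fam) {M Q n q c : ℕ} (hn : n ≤ M) (hq : q ≤ Q) (hd : 0 < D.den n q)
    (h : D.den n q * c = D.num n q) : c ≤ fb D M Q := by
  have h1 : c ≤ D.num n q := by
    rw [← h]
    exact Nat.le_mul_of_pos_left _ hd
  refine h1.trans ?_
  unfold fb
  calc D.num n q ≤ ∑ q ∈ Finset.range (Q + 1), D.num n q :=
        Finset.single_le_sum (f := fun q => D.num n q) (fun _ _ => Nat.zero_le _) (Finset.mem_range.2 (by omega))
    _ ≤ _ := Finset.single_le_sum (f := fun n => ∑ q ∈ Finset.range (Q + 1), D.num n q)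
        (fun _ _ => Nat.zero_le _) (Finset.mem_range.2 (by omega))

/-- all families -/
def fams : List Fam :=
  [fPSL, fPSp, fPSU, fOOdd, fOPlus, fOMinus, fG2, fF4, fE6, fE7, fE8, fTE6, fTD4, fSz, fRee, fTF4]

/-- the bound -/
def bnd (P : ℕ) : ℕ :=
  Nat.factorial (2 * P + 2) + (fams.map fun D => fb D (max P 6) (P ^ max P 6)).sum + (spor.map fun x => x.2).sum

theorem le_bnd_fam {P c : ℕ} {D : Fam} (hD : D ∈ fams) (h : c ≤ fb D (max P 6) (P ^ max P 6)) : c ≤ bnd P := by
  have h1 : fb D (max P 6) (P ^ max P 6) ≤ (fams.map fun D => fb D (max P 6) (P ^ max P 6)).sum :=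
    List.single_le_sum (fun _ _ => Nat.zero_le _) _ (List.mem_map.2 ⟨D, hD, rfl⟩)
  unfold bnd
  omega

theorem le_bnd_spor {P : ℕ} {x : Grp × ℕ} (hx : x ∈ spor) : x.2 ≤ bnd P := by
  have h1 : x.2 ≤ (spor.map fun x => x.2).sum :=
    List.single_le_sum (fun _ _ => Nat.zero_le _) _ (List.mem_map.2 ⟨x, hx, rfl⟩)
  unfold bnd
  omega

/-- one family -/
theorem le_of_fam {P c n q k : ℕ} (D : Fam) (hD : D ∈ fams) (hP : ∀ r : ℕ, r.Prime → r ∣ c → r ≤ P)
    (hq : IsPrimePow q) (hk : 2 ≤ k) (hnk : n ≤ k) (h : D.den n q * c = D.num n q) (hcop : (D.den n q).Coprime q)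
    (hqn : q ∣ D.num n q) (hden : ∀ r : ℕ, r.Prime → r ∣ D.den n q → ∃ j, 0 < j ∧ j < k ∧ r ∣ q ^ j - 1)
    (hnum : ∃ j, 0 < j ∧ j < k ∧ q ^ k - 1 ∣ D.num n q * (q ^ j - 1)) : c ≤ bnd P := by
  obtain ⟨h1, h2⟩ := par_bound hP hq hk h hcop hqn hden hnum
  refine le_bnd_fam hD (le_fb D (hnk.trans h1) h2 ?_ h)
  rcases Nat.eq_zero_or_pos (D.den n q) with h3 | h3
  · exfalso
    rw [h3, Nat.coprime_zero_left] at hcop
    exact hq.one_lt.ne' hcop
  · exact h3

/-! ### the denominators and numerators -/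

theorem den_sub {q k d : ℕ} (hk : 2 ≤ k) (hd : ∀ r : ℕ, r.Prime → r ∣ d → r ∣ q - 1) :
    ∀ r : ℕ, r.Prime → r ∣ d → ∃ j, 0 < j ∧ j < k ∧ r ∣ q ^ j - 1 :=
  fun r hr h => ⟨1, one_pos, by omega, by rw [pow_one]; exact hd r hr h⟩

theorem den_add {q k d : ℕ} (hk : 3 ≤ k) (hd : ∀ r : ℕ, r.Prime → r ∣ d → r ∣ q + 1) :
    ∀ r : ℕ, r.Prime → r ∣ d → ∃ j, 0 < j ∧ j < k ∧ r ∣ q ^ j - 1 :=
  fun r hr h => ⟨2, two_pos, by omega, by
    have h1 : q ^ 2 - 1 = (q + 1) * (q - 1) := by rw [← Nat.sq_sub_sq, one_pow]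
    rw [h1]
    exact (hd r hr h).mul_right _⟩

theorem den_two {q k d : ℕ} (hk : 2 ≤ k) (hd : ∀ r : ℕ, r.Prime → r ∣ d → r = 2 ∧ q % 2 = 1) :
    ∀ r : ℕ, r.Prime → r ∣ d → ∃ j, 0 < j ∧ j < k ∧ r ∣ q ^ j - 1 :=
  den_sub hk fun r hr h => by
    obtain ⟨rfl, h2⟩ := hd r hr h
    omega

theorem num_dvd {q k num : ℕ} (hk : 2 ≤ k) (h : q ^ k - 1 ∣ num) : ∃ j, 0 < j ∧ j < k ∧ q ^ k - 1 ∣ num * (q ^ j - 1) :=
  ⟨1, one_pos, by omega, h.mul_right _⟩

theorem num_add {q j num : ℕ} (hj : 0 < j) (h : q ^ j + 1 ∣ num) :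
    ∃ i, 0 < i ∧ i < 2 * j ∧ q ^ (2 * j) - 1 ∣ num * (q ^ i - 1) :=
  ⟨j, hj, by omega, by
    have h1 : q ^ (2 * j) - 1 = (q ^ j + 1) * (q ^ j - 1) := by
      rw [← Nat.sq_sub_sq, one_pow, ← pow_mul, mul_comm]
    rw [h1]
    exact Nat.mul_dvd_mul_right h _⟩

theorem dvd_prB {q m i : ℕ} (hi : i < m) : q ^ (2 * (i + 1)) - 1 ∣ prB q m := by
  unfold prB
  rw [prod_list]
  exact Finset.dvd_prod_of_mem (fun i => q ^ (2 * (i + 1)) - 1) (Finset.mem_range.2 hi)

theorem dvd_prB' {q m : ℕ} (hm : 1 ≤ m) : q ^ (2 * m) - 1 ∣ prB q m := by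
  have h := dvd_prB (q := q) (m := m) (i := m - 1) (by omega)
  rwa [Nat.sub_add_cancel hm] at h

/-! ### the classical families -/

section

variable {P : ℕ} {F : Type} [Field F] [Fintype F]

theorem psl {n : ℕ} (hn : 2 ≤ n)
    (hP : ∀ r : ℕ, r.Prime → r ∣ Nat.card (Matrix.ProjectiveSpecialLinearGroup (Fin n) F) → r ≤ P) :
    Nat.card (Matrix.ProjectiveSpecialLinearGroup (Fin n) F) ≤ bnd P := by
  have hq : 1 < Fintype.card F := Fintype.one_lt_card
  have h := S0243.result (F := F) rfl n hn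
  rw [Fin.prod_univ_eq_prod_range (fun i => Fintype.card F ^ n - Fintype.card F ^ i) n, ← prod_list] at h
  have hcop : (Nat.gcd n (Fintype.card F - 1) * (Fintype.card F - 1)).Coprime (Fintype.card F) := by
    have h1 := cop_sub (q := Fintype.card F) (k := 1) (by omega) le_rfl
    rw [pow_one] at h1
    exact Nat.Coprime.mul_left (Nat.Coprime.coprime_dvd_left (Nat.gcd_dvd_right _ _) h1) h1
  have hqn : Fintype.card F ∣ glN n (Fintype.card F) := by
    have h1 := pow_dvd_glN n (Fintype.card F)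
    have h2 := (le_tri hn).2
    exact (dvd_pow_self _ (by omega)).trans h1
  refine le_of_fam (k := n) (n := n) (q := Fintype.card F) fPSL (by simp [fams]) hP
    Fintype.isPrimePow_card_of_field hn le_rfl ?_ hcop hqn (den_sub hn ?_) (num_dvd hn ?_)
  · change Nat.gcd n (Fintype.card F - 1) * (Fintype.card F - 1) * _ = glN n (Fintype.card F)
    rw [mul_assoc]
    exact h
  · intro r hr h1
    rcases hr.dvd_mul.1 h1 with h2 | h2
    · exact h2.trans (Nat.gcd_dvd_right _ _)
    · exact h2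
  · change _ ∣ glN n (Fintype.card F)
    unfold glN
    rw [prod_list]
    have h2 := Finset.dvd_prod_of_mem (fun i => Fintype.card F ^ n - Fintype.card F ^ i)
      (Finset.mem_range.2 (show 0 < n by omega))
    simpa using h2

theorem psp {m : ℕ} (hm : 2 ≤ m) (hP : ∀ r : ℕ, r.Prime → r ∣ Nat.card (PSp m F) → r ≤ P) :
    Nat.card (PSp m F) ≤ bnd P := by
  have hq : 1 < Fintype.card F := Fintype.one_lt_card
  have hc : fPSp.den m (Fintype.card F) * Nat.card (PSp m F) = fPSp.num m (Fintype.card F) := by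
    have h1 := S0245.result (F := F) rfl m
    have h2 := S0246.result (F := F) rfl m (by omega)
    have h3 := Subgroup.card_eq_card_quotient_mul_card_subgroup
      (Subgroup.center (Matrix.symplecticGroup (Fin m) F))
    rw [← prod_list (fun i => Fintype.card F ^ (2 * (i + 1)) - 1)] at h1
    rw [h1, h2] at h3
    change Nat.gcd 2 (Fintype.card F - 1) * Nat.card (PSp m F) = Fintype.card F ^ (m ^ 2) * prB (Fintype.card F) m
    rw [mul_comm]
    exact h3.symm
  have hcop : (Nat.gcd 2 (Fintype.card F - 1)).Coprime (Fintype.card F) := by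
    have h1 := cop_sub (q := Fintype.card F) (k := 1) (by omega) le_rfl
    rw [pow_one] at h1
    exact Nat.Coprime.coprime_dvd_left (Nat.gcd_dvd_right _ _) h1
  refine le_of_fam (k := 2 * m) (n := m) (q := Fintype.card F) fPSp (by simp [fams]) hP
    Fintype.isPrimePow_card_of_field (by omega) (by omega) hc hcop ?_ (den_sub (by omega) ?_) (num_dvd (by omega) ?_)
  · exact (dvd_pow_self _ (by positivity)).mul_right _
  · intro r hr h1
    exact h1.trans (Nat.gcd_dvd_right _ _)
  · exact (dvd_prB' (by omega)).mul_left _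

theorem psu {n q : ℕ} (hF : Fintype.card F = q ^ 2) (hn : 3 ≤ n)
    (hP : ∀ r : ℕ, r.Prime → r ∣ Nat.card (PSU n F q) → r ≤ P) : Nat.card (PSU n F q) ≤ bnd P := by
  have hq2 : IsPrimePow (q ^ 2) := hF ▸ Fintype.isPrimePow_card_of_field
  have hqp : IsPrimePow q := (isPrimePow_pow_iff (by norm_num)).1 hq2
  have hU : prU q n = ∏ i ∈ Finset.range n, (if Even i then q ^ (i + 1) + 1 else q ^ (i + 1) - 1) := by
    rw [← prod_list]
    unfold prU
    congr 1
    apply List.map_congr_left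
    intro i _
    by_cases h : Even i
    · rw [if_pos h, if_pos]
      rw [Nat.beq_eq]
      exact Nat.even_iff.1 h
    · rw [if_neg h, if_neg]
      rw [Nat.beq_eq, ← Nat.even_iff]
      exact h
  have hc : fPSU.den n q * Nat.card (PSU n F q) = fPSU.num n q := by
    have h := S0280.result hF n (by omega)
    change Nat.gcd n (q + 1) * (q + 1) * _ = q ^ (n * (n - 1) / 2) * prU q n
    rw [hU, mul_assoc]
    exact h
  have hcop : (Nat.gcd n (q + 1) * (q + 1)).Coprime q := by
    have h1 := cop_add (q := q) (k := 1) le_rfl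
    rw [pow_one] at h1
    exact Nat.Coprime.mul_left (Nat.Coprime.coprime_dvd_left (Nat.gcd_dvd_right _ _) h1) h1
  have hden : ∀ r : ℕ, r.Prime → r ∣ Nat.gcd n (q + 1) * (q + 1) → r ∣ q + 1 := by
    intro r hr h1
    rcases hr.dvd_mul.1 h1 with h2 | h2
    · exact h2.trans (Nat.gcd_dvd_right _ _)
    · exact h2
  have hqn : q ∣ fPSU.num n q :=
    (dvd_pow_self q (by have := (le_tri (n := n) (by omega)).2; omega)).mul_right _
  have hterm : (if Even (n - 1) then q ^ (n - 1 + 1) + 1 else q ^ (n - 1 + 1) - 1) ∣ fPSU.num n q := by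
    change _ ∣ q ^ (n * (n - 1) / 2) * prU q n
    rw [hU]
    exact (Finset.dvd_prod_of_mem (fun i => if Even i then q ^ (i + 1) + 1 else q ^ (i + 1) - 1)
      (Finset.mem_range.2 (show n - 1 < n by omega))).mul_left _
  rw [Nat.sub_add_cancel (show 1 ≤ n by omega)] at hterm
  by_cases he : Even (n - 1)
  · rw [if_pos he] at hterm
    exact le_of_fam (k := 2 * n) (n := n) (q := q) fPSU (by simp [fams]) hP hqp (by omega) (by omega) hc hcop hqn
      (den_add (by omega) hden) (num_add (by omega) hterm)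
  · rw [if_neg he] at hterm
    exact le_of_fam (k := n) (n := n) (q := q) fPSU (by simp [fams]) hP hqp (by omega) le_rfl hc hcop hqn
      (den_add (by omega) hden) (num_dvd (by omega) hterm)

theorem oodd {m : ℕ} (hm : 3 ≤ m) (ho : Odd (Fintype.card F))
    (hP : ∀ r : ℕ, r.Prime → r ∣ Nat.card (POmega F (quadFormOdd m F)) → r ≤ P) :
    Nat.card (POmega F (quadFormOdd m F)) ≤ bnd P := by
  have hc : fOOdd.den m (Fintype.card F) * Nat.card (POmega F (quadFormOdd m F)) = fOOdd.num m (Fintype.card F) := by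
    have h := S0292.result (F := F) rfl ho m hm
    rw [← prod_list (fun i => Fintype.card F ^ (2 * (i + 1)) - 1)] at h
    exact h
  refine le_of_fam (k := 2 * m) (n := m) (q := Fintype.card F) fOOdd (by simp [fams]) hP
    Fintype.isPrimePow_card_of_field (by omega) (by omega) hc ?_ ?_ (den_two (by omega) ?_) (num_dvd (by omega) ?_)
  · change (2 : ℕ).Coprime (Fintype.card F)
    exact (Nat.coprime_two_left).2 ho
  · exact (dvd_pow_self _ (by positivity)).mul_right _
  · intro r hr h1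
    exact ⟨(Nat.prime_dvd_prime_iff_eq hr Nat.prime_two).1 h1, Nat.odd_iff.1 ho⟩
  · exact (dvd_prB' (by omega)).mul_left _

theorem dvd_four {r q m e : ℕ} (hr : r.Prime) (h : r ∣ Nat.gcd 4 e) (he : e % 2 = 0 → (q ^ m) % 2 = 1) (hm : 1 ≤ m) :
    r = 2 ∧ q % 2 = 1 := by
  have h1 : r ∣ 2 ^ 2 := h.trans (Nat.gcd_dvd_left _ _)
  have h2 : r = 2 := (Nat.prime_dvd_prime_iff_eq hr Nat.prime_two).1 (hr.dvd_of_dvd_pow h1)
  subst h2
  refine ⟨rfl, ?_⟩
  have h3 : 2 ∣ e := h.trans (Nat.gcd_dvd_right _ _)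
  have h4 := he (Nat.mod_eq_zero_of_dvd h3)
  rw [← Nat.odd_iff] at h4 ⊢
  exact (Nat.odd_pow_iff (by omega)).1 h4

theorem oplus {m : ℕ} (hm : 4 ≤ m)
    (hP : ∀ r : ℕ, r.Prime → r ∣ Nat.card (POmega F (quadFormPlus m F)) → r ≤ P) :
    Nat.card (POmega F (quadFormPlus m F)) ≤ bnd P := by
  have hq : 1 < Fintype.card F := Fintype.one_lt_card
  have hc : fOPlus.den m (Fintype.card F) * Nat.card (POmega F (quadFormPlus m F)) =
      fOPlus.num m (Fintype.card F) := by
    have h := S0293.result (F := F) rfl m hm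
    rw [← prod_list (fun i => Fintype.card F ^ (2 * (i + 1)) - 1)] at h
    change Nat.gcd 4 (Fintype.card F ^ m - 1) * _ =
      Fintype.card F ^ (m * (m - 1)) * ((Fintype.card F ^ m - 1) * prB (Fintype.card F) (m - 1))
    rw [← mul_assoc (Fintype.card F ^ (m * (m - 1)))]
    exact h
  refine le_of_fam (k := 2 * (m - 1)) (n := m) (q := Fintype.card F) fOPlus (by simp [fams]) hP
    Fintype.isPrimePow_card_of_field (by omega) (by omega) hc ?_ ?_ (den_two (by omega) ?_) (num_dvd (by omega) ?_)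
  · change (Nat.gcd 4 (Fintype.card F ^ m - 1)).Coprime (Fintype.card F)
    exact Nat.Coprime.coprime_dvd_left (Nat.gcd_dvd_right _ _) (cop_sub (by omega) (by omega))
  · exact (dvd_pow_self _ (Nat.mul_ne_zero (by omega) (by omega))).mul_right _
  · intro r hr h1
    have h2 : 1 ≤ Fintype.card F ^ m := Nat.one_le_pow _ _ (by omega)
    exact dvd_four (m := m) hr h1 (by omega) (by omega)
  · exact ((dvd_prB' (by omega)).mul_left _).mul_left _

theorem ominus {m : ℕ} (hm : 4 ≤ m) {a b : F}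
    (hab : ∀ z₁ z₂ : F, z₁ ^ 2 + a * z₁ * z₂ + b * z₂ ^ 2 = 0 → z₁ = 0 ∧ z₂ = 0)
    (hP : ∀ r : ℕ, r.Prime → r ∣ Nat.card (POmega F (quadFormMinus (m - 1) F a b)) → r ≤ P) :
    Nat.card (POmega F (quadFormMinus (m - 1) F a b)) ≤ bnd P := by
  have hc : fOMinus.den m (Fintype.card F) * Nat.card (POmega F (quadFormMinus (m - 1) F a b)) =
      fOMinus.num m (Fintype.card F) := by
    have h := S0294.result (F := F) rfl m hm a b hab
    rw [← prod_list (fun i => Fintype.card F ^ (2 * (i + 1)) - 1)] at h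
    change Nat.gcd 4 (Fintype.card F ^ m + 1) * _ =
      Fintype.card F ^ (m * (m - 1)) * ((Fintype.card F ^ m + 1) * prB (Fintype.card F) (m - 1))
    rw [← mul_assoc (Fintype.card F ^ (m * (m - 1)))]
    exact h
  refine le_of_fam (k := 2 * (m - 1)) (n := m) (q := Fintype.card F) fOMinus (by simp [fams]) hP
    Fintype.isPrimePow_card_of_field (by omega) (by omega) hc ?_ ?_ (den_two (by omega) ?_) (num_dvd (by omega) ?_)
  · change (Nat.gcd 4 (Fintype.card F ^ m + 1)).Coprime (Fintype.card F)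
    exact Nat.Coprime.coprime_dvd_left (Nat.gcd_dvd_right _ _) (cop_add (by omega))
  · exact (dvd_pow_self _ (Nat.mul_ne_zero (by omega) (by omega))).mul_right _
  · intro r hr h1
    exact dvd_four (m := m) hr h1 (by omega) (by omega)
  · exact ((dvd_prB' (by omega)).mul_left _).mul_left _

end

theorem mem_G2 : fG2 ∈ fams := by simp [fams]
theorem mem_F4 : fF4 ∈ fams := by simp [fams]
theorem mem_E6 : fE6 ∈ fams := by simp [fams]
theorem mem_E7 : fE7 ∈ fams := by simp [fams]
theorem mem_E8 : fE8 ∈ fams := by simp [fams]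
theorem mem_TE6 : fTE6 ∈ fams := by simp [fams]
theorem mem_TD4 : fTD4 ∈ fams := by simp [fams]
theorem mem_Sz : fSz ∈ fams := by simp [fams]
theorem mem_Ree : fRee ∈ fams := by simp [fams]
theorem mem_TF4 : fTF4 ∈ fams := by simp [fams]

/-- one-parameter families -/
theorem of_one {P a k q c : ℕ} {f den : ℕ → ℕ} {ok : ℕ → Bool} (hD : one a f den ok ∈ fams)
    (hP : ∀ r : ℕ, r.Prime → r ∣ c → r ≤ P) (ha : 1 ≤ a) (hq : IsPrimePow q) (hk : 2 ≤ k)
    (hc : den q * c = q ^ a * f q) (hcop : (den q).Coprime q)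
    (hden : ∀ r : ℕ, r.Prime → r ∣ den q → ∃ j, 0 < j ∧ j < k ∧ r ∣ q ^ j - 1)
    (hnum : ∃ j, 0 < j ∧ j < k ∧ q ^ k - 1 ∣ (q ^ a * f q) * (q ^ j - 1)) : c ≤ bnd P :=
  le_of_fam (k := k) (n := 0) (q := q) (one a f den ok) hD hP hq hk (Nat.zero_le _) hc hcop
    ((dvd_pow_self q (by omega)).mul_right _) hden hnum

theorem den_one {q k : ℕ} : ∀ r : ℕ, r.Prime → r ∣ 1 → ∃ j, 0 < j ∧ j < k ∧ r ∣ q ^ j - 1 :=
  fun _ hr h => absurd (Nat.dvd_one.1 h) hr.one_lt.ne'

theorem alt {P : ℕ} {S : Type u} [Group S] {n : ℕ} (hn : 5 ≤ n) (e : S ≃* ↥(alternatingGroup (Fin n)))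
    (hP : ∀ r : ℕ, r.Prime → r ∣ Nat.card S → r ≤ P) : Nat.card S ≤ bnd P := by
  have hc := alt_card hn e
  have h2 : 2 ≤ P := by
    apply hP 2 Nat.prime_two
    have h3 : 2 * 2 ∣ n.factorial := by
      have h4 : Nat.factorial 4 ∣ n.factorial := Nat.factorial_dvd_factorial (by omega)
      exact (by decide : 2 * 2 ∣ Nat.factorial 4).trans h4
    rw [hc] at h3
    exact Nat.dvd_of_mul_dvd_mul_left two_pos h3
  have hnP : n ≤ 2 * P + 2 := by
    by_contra hcon
    push Not at hcon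
    obtain ⟨r, hr, h3, h4⟩ := Nat.exists_prime_lt_and_le_two_mul P (by omega)
    have h5 : r ∣ 2 * Nat.card S := by
      rw [← hc]
      exact hr.dvd_factorial.2 (by omega)
    rcases hr.dvd_mul.1 h5 with h6 | h6
    · have := Nat.le_of_dvd two_pos h6
      omega
    · have := hP r hr h6
      omega
  have h3 : Nat.card S ≤ n.factorial := by omega
  have h4 : n.factorial ≤ (2 * P + 2).factorial := Nat.factorial_le hnP
  unfold bnd
  omega

/-- **Known nonabelian simple groups with bounded prime divisors have bounded order.** -/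
theorem le_bnd (T : OrderTable.{u}) {S : Type u} [Group S] (h : IsKnownSimple' S)
    (hna : ¬ ∀ a b : S, a * b = b * a) {P : ℕ} (hP : ∀ r : ℕ, r.Prime → r ∣ Nat.card S → r ≤ P) :
    Nat.card S ≤ bnd P := by
  have key : ∀ (g : Grp), g ∈ spor.map (fun x => x.1) → Real g S → Nat.card S ≤ bnd P := fun g hg hr => by
    obtain ⟨x, hx, rfl⟩ := List.mem_map.1 hg
    rw [T.spor S x hx hr]
    exact le_bnd_spor hx
  rcases h with h | h | h | h | h | h | h | h | h | h
  · exfalso
    have : Fact (Nat.card S).Prime := ⟨h⟩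
    have : IsCyclic S := isCyclic_of_prime_card (p := Nat.card S) rfl
    exact hna fun a b => (IsCyclic.isMulCommutative (α := S)).is_comm.comm a b
  · obtain ⟨n, hn, ⟨e⟩⟩ := h
    exact alt hn e hP
  · obtain ⟨F, _, _, n, hn, hn2, ⟨e⟩⟩ := h
    rw [Nat.card_congr e.toEquiv] at hP ⊢
    exact psl hn hP
  · obtain ⟨F, _, _, n, hn, hn2, ⟨e⟩⟩ := h
    rw [Nat.card_congr e.toEquiv] at hP ⊢
    exact psp hn hP
  · obtain ⟨F, _, _, n, q, hF, hn, hn2, ⟨e⟩⟩ := h
    rw [Nat.card_congr e.toEquiv] at hP ⊢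
    exact psu hF hn hP
  · obtain ⟨F, _, _, n, hn, ho, ⟨e⟩⟩ := h
    rw [Nat.card_congr e.toEquiv] at hP ⊢
    exact oodd hn ho hP
  · obtain ⟨F, _, _, n, hn, ⟨e⟩⟩ := h
    rw [Nat.card_congr e.toEquiv] at hP ⊢
    exact oplus hn hP
  · obtain ⟨F, _, _, n, a, b, hn, hab, ⟨e⟩⟩ := h
    rw [Nat.card_congr e.toEquiv] at hP ⊢
    exact ominus hn hab hP
  · rcases h with h | h | h | h | h | h | h | h | h | h | h
    · obtain ⟨F, _, _, hq, ⟨e⟩⟩ := h
      rw [Nat.card_congr e.toEquiv] at hP ⊢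
      exact of_one (k := 6) (q := Fintype.card F) mem_G2 hP (by norm_num)
        Fintype.isPrimePow_card_of_field (by norm_num) (by rw [T.g2 F]; ring) (Nat.coprime_one_left _) den_one
        (num_dvd (by norm_num) ⟨Fintype.card F ^ 6 * (Fintype.card F ^ 2 - 1), by ring⟩)
    · obtain ⟨F, _, _, ⟨e⟩⟩ := h
      rw [Nat.card_congr e.toEquiv] at hP ⊢
      exact of_one (k := 6) (q := Fintype.card F) mem_F4 hP (by norm_num)
        Fintype.isPrimePow_card_of_field (by norm_num) (by rw [T.f4 F _ rfl]; ring) (Nat.coprime_one_left _) den_one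
        (num_dvd (by norm_num) ⟨Fintype.card F ^ 24 * (Fintype.card F ^ 2 - 1) * (Fintype.card F ^ 8 - 1) *
          (Fintype.card F ^ 12 - 1), by ring⟩)
    · obtain ⟨F, _, _, ⟨e⟩⟩ := h
      rw [Nat.card_congr e.toEquiv] at hP ⊢
      have h0 := cop_sub (q := Fintype.card F) (k := 1) Fintype.card_pos le_rfl
      rw [pow_one] at h0
      exact of_one (k := 6) (q := Fintype.card F) mem_E6 hP (by norm_num)
        Fintype.isPrimePow_card_of_field (by norm_num) (by rw [T.e6 F _ rfl]; ring)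
        (Nat.Coprime.coprime_dvd_left (Nat.gcd_dvd_right _ _) h0)
        (den_sub (by norm_num) fun r _ h => h.trans (Nat.gcd_dvd_right _ _))
        (num_dvd (by norm_num) ⟨Fintype.card F ^ 36 * (Fintype.card F ^ 2 - 1) * (Fintype.card F ^ 5 - 1) *
          (Fintype.card F ^ 8 - 1) * (Fintype.card F ^ 9 - 1) * (Fintype.card F ^ 12 - 1), by ring⟩)
    · obtain ⟨F, _, _, ⟨e⟩⟩ := h
      rw [Nat.card_congr e.toEquiv] at hP ⊢
      have h0 := cop_sub (q := Fintype.card F) (k := 1) Fintype.card_pos le_rfl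
      rw [pow_one] at h0
      exact of_one (k := 6) (q := Fintype.card F) mem_E7 hP (by norm_num)
        Fintype.isPrimePow_card_of_field (by norm_num) (by rw [T.e7 F _ rfl]; ring)
        (Nat.Coprime.coprime_dvd_left (Nat.gcd_dvd_right _ _) h0)
        (den_sub (by norm_num) fun r _ h => h.trans (Nat.gcd_dvd_right _ _))
        (num_dvd (by norm_num) ⟨Fintype.card F ^ 63 * (Fintype.card F ^ 2 - 1) *
          (Fintype.card F ^ 8 - 1) * (Fintype.card F ^ 10 - 1) * (Fintype.card F ^ 12 - 1) *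
          (Fintype.card F ^ 14 - 1) * (Fintype.card F ^ 18 - 1), by ring⟩)
    · obtain ⟨F, _, _, ⟨e⟩⟩ := h
      rw [Nat.card_congr e.toEquiv] at hP ⊢
      exact of_one (k := 8) (q := Fintype.card F) mem_E8 hP (by norm_num)
        Fintype.isPrimePow_card_of_field (by norm_num) (by rw [T.e8 F _ rfl]; ring) (Nat.coprime_one_left _) den_one
        (num_dvd (by norm_num) ⟨Fintype.card F ^ 120 * (Fintype.card F ^ 2 - 1) *
          (Fintype.card F ^ 12 - 1) * (Fintype.card F ^ 14 - 1) * (Fintype.card F ^ 18 - 1) *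
          (Fintype.card F ^ 20 - 1) * (Fintype.card F ^ 24 - 1) * (Fintype.card F ^ 30 - 1), by ring⟩)
    · obtain ⟨F, _, _, q, hq, hF, ⟨e⟩⟩ := h
      rw [Nat.card_congr e.toEquiv] at hP ⊢
      have h0 := cop_add (q := q) (k := 1) le_rfl
      rw [pow_one] at h0
      exact of_one (k := 6) (q := q) mem_TE6 hP (by norm_num)
        hq (by norm_num) (by rw [T.te6 F q hq hF]; ring)
        (Nat.Coprime.coprime_dvd_left (Nat.gcd_dvd_right _ _) h0)
        (den_add (by norm_num) fun r _ h => h.trans (Nat.gcd_dvd_right _ _))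
        (num_dvd (by norm_num) ⟨q ^ 36 * (q ^ 2 - 1) * (q ^ 5 + 1) *
          (q ^ 8 - 1) * (q ^ 9 + 1) * (q ^ 12 - 1), by ring⟩)
    · obtain ⟨F, _, _, q, hq, hF, ⟨e⟩⟩ := h
      rw [Nat.card_congr e.toEquiv] at hP ⊢
      exact of_one (k := 6) (q := q) mem_TD4 hP (by norm_num)
        hq (by norm_num) (by rw [T.td4 F q hq hF]; ring) (Nat.coprime_one_left _) den_one
        (num_dvd (by norm_num) ⟨q ^ 12 * (q ^ 2 - 1) * (q ^ 8 + q ^ 4 + 1), by ring⟩)
    · obtain ⟨F, _, _, m, hm, hF, ⟨e⟩⟩ := h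
      rw [Nat.card_congr e.toEquiv] at hP ⊢
      exact of_one (k := 2 * 2) (q := 2 ^ (2 * m + 1)) mem_Sz hP (by norm_num)
        (Nat.prime_two.isPrimePow.pow (by omega)) (by norm_num) (by rw [T.sz F m hm hF]; ring)
        (Nat.coprime_one_left _) den_one
        (num_add (by norm_num) ⟨(2 ^ (2 * m + 1)) ^ 2 * (2 ^ (2 * m + 1) - 1), by ring⟩)
    · obtain ⟨F, _, _, m, hm, hF, ⟨e⟩⟩ := h
      rw [Nat.card_congr e.toEquiv] at hP ⊢
      exact of_one (k := 2 * 3) (q := 3 ^ (2 * m + 1)) mem_Ree hP (by norm_num)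
        (Nat.prime_three.isPrimePow.pow (by omega)) (by norm_num) (by rw [T.ree F m hm hF]; ring)
        (Nat.coprime_one_left _) den_one
        (num_add (by norm_num) ⟨(3 ^ (2 * m + 1)) ^ 3 * (3 ^ (2 * m + 1) - 1), by ring⟩)
    · obtain ⟨F, _, _, m, hm, hF, ⟨e⟩⟩ := h
      rw [Nat.card_congr e.toEquiv] at hP ⊢
      exact of_one (k := 4) (q := 2 ^ (2 * m + 1)) mem_TF4 hP (by norm_num)
        (Nat.prime_two.isPrimePow.pow (by omega)) (by norm_num) (by rw [T.tf4 F m hm hF]; ring)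
        (Nat.coprime_one_left _) den_one
        (num_dvd (by norm_num) ⟨(2 ^ (2 * m + 1)) ^ 12 * (2 ^ (2 * m + 1) - 1) *
          ((2 ^ (2 * m + 1)) ^ 3 + 1) * ((2 ^ (2 * m + 1)) ^ 6 + 1), by ring⟩)
    · exact key .tits (by decide) h
  · rcases h with h | h | h | h | h | h | h | h | h | h | h | h | h | h | h | h | h | h | h | h | h | h | h | h | h | h
    · exact key .m11 (by decide) h
    · exact key .m12 (by decide) h
    · exact key .m22 (by decide) h
    · exact key .m23 (by decide) h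
    · exact key .m24 (by decide) h
    · exact key .j1 (by decide) h
    · exact key .j2 (by decide) h
    · exact key .j3 (by decide) h
    · exact key .j4 (by decide) h
    · exact key .co1 (by decide) h
    · exact key .co2 (by decide) h
    · exact key .co3 (by decide) h
    · exact key .mcl (by decide) h
    · exact key .hs (by decide) h
    · exact key .suz (by decide) h
    · exact key .he (by decide) h
    · exact key .ru (by decide) h
    · exact key .on (by decide) h
    · exact key .ly (by decide) h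
    · exact key .fi22 (by decide) h
    · exact key .fi23 (by decide) h
    · exact key .fi24 (by decide) h
    · exact key .hn (by decide) h
    · exact key .th (by decide) h
    · exact key .b (by decide) h
    · exact key .m (by decide) h

end Cfsg.Agent.H369.Bound
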