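import Cfsg.Agent.H371.OutPow
import Cfsg.Agent.H390.PslSpec

/-!
# Groups between `PSL_2(q)` and its automorphism group with the spectrum of `PGL_2(q)`, `q` odd (helper369)

* `isSquare_of_fixed` : the fixed elements of an automorphism of order two of a finite field are squares;
* `mem_iff` : such a group is `PGL_2(q)`.
-/

set_option autoImplicit false

namespace Cfsg.Agent.H369.PglAut

open Matrix
open Cfsg.Agent.ClassicalGeometry.AutPSL.Root
open Cfsg.Agent.ClassicalGeometry.AutPSL.Auto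
open Cfsg.Agent.ClassicalGeometry.AutPSL.Main
open Cfsg.Agent.H371.OutTwo

variable {F : Type*} [Field F]

local notation "SL2" => Matrix.SpecialLinearGroup (Fin 2) F
local notation "PSL2" => Matrix.ProjectiveSpecialLinearGroup (Fin 2) F

/-- the fixed elements of an automorphism of order two of a finite field are squares -/
theorem isSquare_of_fixed [Finite F] (h2 : (2 : F) ≠ 0) (σ : F ≃+* F) (hσ : σ ≠ 1) (hσ2 : ∀ x, σ (σ x) = x) {x : F}
    (hx : σ x = x) : IsSquare x := by
  classical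
  by_cases hx0 : x = 0
  · rw [hx0]; exact IsSquare.zero
  obtain ⟨y, hy⟩ : ∃ y, σ y ≠ y := by
    by_contra hcon
    push Not at hcon
    exact hσ (RingEquiv.ext hcon)
  obtain ⟨w, hw⟩ : ∃ w, w = y - σ y := ⟨_, rfl⟩
  have hw0 : w ≠ 0 := by
    rw [hw]
    intro h
    exact hy (sub_eq_zero.1 h).symm
  have hσw : σ w = -w := by rw [hw, map_sub, hσ2]; ring
  let K : Subfield F := RingHom.eqLocusField (σ : F →+* F) (RingHom.id F)
  have hK : ∀ z : F, z ∈ K ↔ σ z = z := fun z => Iff.rfl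
  have : Fintype K := Fintype.ofFinite K
  let x' : K := ⟨x, (hK x).2 hx⟩
  let d' : K := ⟨w * w, (hK _).2 (by rw [map_mul, hσw]; ring)⟩
  have hchar : ringChar K ≠ 2 := by
    intro h
    apply h2
    have h3 : ((2 : ℕ) : K) = 0 := by rw [← h]; exact ringChar.Nat.cast_ringChar
    have h4 := congrArg K.subtype h3
    rw [map_natCast, map_zero] at h4
    exact_mod_cast h4
  have hd : ¬ IsSquare d' := by
    rintro ⟨⟨s, hs⟩, hss⟩
    have h3 : w * w = s * s := congrArg Subtype.val hss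
    have h4 : (w - s) * (w + s) = 0 := by linear_combination h3
    have h5 : σ w = w := by
      rcases mul_eq_zero.1 h4 with h5 | h5
      · have : w = s := by linear_combination h5
        rw [this]; exact (hK s).1 hs
      · have : w = -s := by linear_combination h5
        rw [this, map_neg, (hK s).1 hs]
    rw [hσw] at h5
    have h6 : (2 : F) * w = 0 := by linear_combination -h5
    rcases mul_eq_zero.1 h6 with h7 | h7
    · exact h2 h7
    · exact hw0 h7
  by_cases hxs : IsSquare x'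
  · obtain ⟨s, hs⟩ := hxs
    exact ⟨s, congrArg Subtype.val hs⟩
  · have hd0 : d' ≠ 0 := by
      intro h
      exact hw0 (mul_self_eq_zero.1 (congrArg Subtype.val h))
    have hx0' : x' ≠ 0 := fun h => hx0 (congrArg Subtype.val h)
    have h3 : quadraticChar K (x' * d') = 1 := by
      rw [map_mul, quadraticChar_neg_one_iff_not_isSquare.2 hxs, quadraticChar_neg_one_iff_not_isSquare.2 hd]
      norm_num
    obtain ⟨s, hs⟩ := (quadraticChar_one_iff_isSquare (mul_ne_zero hx0' hd0)).1 h3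
    have h4 : x * (w * w) = (s : F) * s := congrArg Subtype.val hs
    refine ⟨(s : F) * w⁻¹, ?_⟩
    field_simp
    linear_combination h4

/-- an element of norm the square of a fixed element is a square -/
theorem isSquare_of_norm [Finite F] (h2 : (2 : F) ≠ 0) (σ : F ≃+* F) (hσ : σ ≠ 1) (hσ2 : ∀ x, σ (σ x) = x) {b c : F}
    (hc : σ c = c) (h : b * σ b = c ^ 2) : IsSquare b := by
  by_cases h0 : b + c = 0
  · apply isSquare_of_fixed h2 σ hσ hσ2
    have : b = -c := by linear_combination h0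
    rw [this, map_neg, hc]
  · obtain ⟨d, hd⟩ : ∃ d, d = b + σ b + 2 * c := ⟨_, rfl⟩
    have hσd : σ d = d := by
      rw [hd, map_add, map_add, map_mul, hσ2, hc, map_ofNat]
      ring
    obtain ⟨s, hs⟩ := isSquare_of_fixed h2 σ hσ hσ2 hσd
    have h3 : (b + c) * (b + c) = b * d := by
      rw [hd]
      linear_combination -h
    have hs0 : s ≠ 0 := by
      rintro rfl
      rw [hs, mul_zero, mul_zero] at h3
      exact h0 (mul_self_eq_zero.1 h3)
    refine ⟨(b + c) * s⁻¹, ?_⟩
    rw [hs] at h3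
    field_simp
    linear_combination -h3

section fin
variable [Fintype F]

/-- **Subgroups of `Aut PSL_2(q)` with the spectrum of `PGL_2(q)`.** -/
theorem mem_iff {p : ℕ} [hp : Fact p.Prime] [CharP F p] (hp2 : p ≠ 2) {q : ℕ}
    (hFq : Fintype.card F = q) (hq : 4 < q)
    (Γ : Subgroup (MulAut PSL2)) (hInn : ∀ x : PSL2, MulAut.conj x ∈ Γ)
    (hiso : ∀ α ∈ Γ, p ∣ orderOf α → orderOf α = p) (hγ : ∃ γ ∈ Γ, orderOf γ = q + 1) :
    ∀ α, α ∈ Γ ↔ ∃ A : GL (Fin 2) F, α = lift (cj A) := by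
  classical
  -- arithmetic of q
  obtain ⟨f, hfp, hf⟩ := FiniteField.card F p
  rw [hFq] at hf
  have hf0 : (f : ℕ) ≠ 0 := f.ne_zero
  have hpq : p ∣ q := by rw [hf]; exact dvd_pow_self p hf0
  have hoddp : p % 2 = 1 := by
    rcases hp.out.eq_two_or_odd with h | h
    · exact absurd h hp2
    · exact h
  have hoddq : q % 2 = 1 := by
    rw [hf, Nat.pow_mod, hoddp, one_pow]
    rfl
  have hp1 := hp.out.one_lt
  have hple : p ≤ q := Nat.le_of_dvd (by omega) hpq
  have h2F : (2 : F) ≠ 0 := by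
    intro h
    have h3 : ((2 : ℕ) : F) = 0 := by rw [Nat.cast_ofNat]; exact h
    rw [CharP.cast_eq_zero_iff F p] at h3
    exact hp2 ((Nat.prime_dvd_prime_iff_eq hp.out Nat.prime_two).1 h3)
  -- a generator
  obtain ⟨g, hg⟩ := IsCyclic.exists_generator (α := Fˣ)
  have hgo : orderOf g = q - 1 := by
    rw [orderOf_eq_card_of_forall_mem_zpowers hg, Nat.card_units, Nat.card_eq_fintype_card, hFq]
  have hgns : ∀ s : Fˣ, g ≠ s ^ 2 := by
    intro s hs
    obtain ⟨k, hk⟩ := Subgroup.mem_zpowers_iff.1 (hg s)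
    have h1 : g ^ (k * 2 - 1) = 1 := by
      have h0 : g ^ (k * 2) = g := by
        rw [_root_.zpow_mul, hk, _root_.zpow_ofNat]
        exact hs.symm
      rw [_root_.zpow_sub, h0, zpow_one, mul_inv_cancel]
    rw [← orderOf_dvd_iff_zpow_eq_one, hgo] at h1
    have h2 : (2 : ℤ) ∣ ((q - 1 : ℕ) : ℤ) := by omega
    have h3 := h2.trans h1
    omega
  have hdich : ∀ a : Fˣ, (∃ s : Fˣ, a = s ^ 2) ∨ ∃ s : Fˣ, g = a * s ^ 2 := by
    intro a
    obtain ⟨k, hk⟩ := Subgroup.mem_zpowers_iff.1 (hg a)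
    rcases Int.even_or_odd' k with ⟨j, hj | hj⟩
    · left
      exact ⟨g ^ j, by rw [← hk, hj, mul_comm, _root_.zpow_mul, _root_.zpow_ofNat]⟩
    · right
      refine ⟨g ^ (-j), ?_⟩
      rw [← hk, hj, ← _root_.zpow_natCast, ← _root_.zpow_mul, ← _root_.zpow_add]
      have : (2 * j + 1 + -j * ((2 : ℕ) : ℤ)) = 1 := by push_cast; ring
      rw [this, zpow_one]
  -- membership
  have hmem : ∀ (A B : GL (Fin 2) F) (σ : F ≃+* F) (s : Fˣ), lift (cj A * fld σ) ∈ Γ →
      (B : Matrix (Fin 2) (Fin 2) F).det = (A : Matrix (Fin 2) (Fin 2) F).det * (s : F) ^ 2 →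
      lift (cj B * fld σ) ∈ Γ := by
    intro A B σ s h hdet
    obtain ⟨x, hx⟩ := exists_inner hdet
    rw [map_mul, hx, mul_assoc, ← map_mul]
    exact Γ.mul_mem (hInn _) h
  have hred : ∀ (A : GL (Fin 2) F) (σ : F ≃+* F), lift (cj A * fld σ) ∈ Γ →
      (lift (fld σ : MulAut SL2) ∈ Γ ∧ ∃ x : PSL2, lift (cj A) = MulAut.conj x) ∨
      lift (cj (D g 1) * fld σ) ∈ Γ := by
    intro A σ h
    obtain ⟨a, ha⟩ : ∃ a : Fˣ, (a : F) = (A : Matrix (Fin 2) (Fin 2) F).det :=
      (Matrix.isUnit_iff_isUnit_det _).1 A.isUnit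
    rcases hdich a with ⟨s, hs⟩ | ⟨s, hs⟩
    · left
      constructor
      · have h1 := hmem A (D 1 1) σ s⁻¹ h (by
          rw [D_det, ← ha, hs, ← Units.val_pow_eq_pow_val, ← Units.val_mul, ← Units.val_mul,
            inv_pow, mul_inv_cancel, one_mul])
        rwa [D_one, map_one, one_mul] at h1
      · obtain ⟨x, hx⟩ := exists_inner (A := (1 : GL (Fin 2) F)) (B := A) (s := s) (by
          rw [Units.val_one, Matrix.det_one, one_mul, ← ha, hs, Units.val_pow_eq_pow_val])
        rw [map_one, map_one, mul_one] at hx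
        exact ⟨_, hx⟩
    · right
      apply hmem A (D g 1) σ s h
      rw [D_det, ← ha, Units.val_one, mul_one, ← Units.val_pow_eq_pow_val, ← Units.val_mul, ← hs]
  have : Finite (F ≃+* F) := Finite.of_injective (fun σ => (σ : F → F)) DFunLike.coe_injective
  -- (i)
  have hi : ∀ σ : F ≃+* F, lift (fld σ : MulAut SL2) ∈ Γ → σ = 1 := by
    intro σ hσ
    by_contra hne
    obtain ⟨r, hr, hrσ⟩ := Nat.exists_prime_and_dvd (n := orderOf σ)
      (by rw [Ne, orderOf_eq_one_iff]; exact hne)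
    obtain ⟨k, hk⟩ := hrσ
    have hpos : 0 < orderOf σ := orderOf_pos σ
    have hk0 : k ≠ 0 := by rintro rfl; rw [mul_zero] at hk; omega
    have hτ : orderOf (σ ^ k) = r := by
      rw [orderOf_pow_of_dvd hk0 (by rw [hk]; exact Dvd.intro_left _ rfl), hk,
        Nat.mul_div_cancel _ (Nat.pos_of_ne_zero hk0)]
    have hτm : lift (fld (σ ^ k) : MulAut SL2) ∈ Γ := by
      rw [map_pow, map_pow]
      exact Γ.pow_mem hσ k
    have hτo : orderOf (lift (fld (σ ^ k) : MulAut SL2)) = r := by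
      have := Fact.mk hr
      apply orderOf_eq_prime
      · rw [← map_pow, ← map_pow, ← hτ, pow_orderOf_eq_one, map_one, map_one]
      · intro h
        have h1 := fld_eq_one h
        rw [h1, orderOf_one] at hτ
        exact hr.one_lt.ne hτ
    by_cases hrp : r = p
    · -- an involution
      have hc := fld_commute (fld_w (σ ^ k))
      have ho := orderOf_conj (x := (w : SL2)) Nat.prime_two pr_w_pow pr_w_ne
      have h1 : orderOf (lift (fld (σ ^ k) : MulAut SL2) * MulAut.conj (pr (w : SL2))) = p * 2 := by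
        rw [hc.orderOf_mul_eq_mul_orderOf_of_coprime, hτo, ho, hrp]
        rw [hτo, ho, hrp]
        exact (Nat.coprime_primes hp.out Nat.prime_two).2 hp2
      have h2 := hiso _ (Γ.mul_mem hτm (hInn (pr (w : SL2)))) (by rw [h1]; exact Dvd.intro _ rfl)
      rw [h1] at h2
      omega
    · have hc := fld_commute (fld_u (σ ^ k))
      have ho := orderOf_conj (x := (u : SL2)) hp.out pr_u_pow pr_u_ne
      have h1 : orderOf (lift (fld (σ ^ k) : MulAut SL2) * MulAut.conj (pr (u : SL2))) = r * p := by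
        rw [hc.orderOf_mul_eq_mul_orderOf_of_coprime, hτo, ho]
        rw [hτo, ho]
        exact (Nat.coprime_primes hr hp.out).2 hrp
      have h2 := hiso _ (Γ.mul_mem hτm (hInn (pr (u : SL2)))) (by rw [h1]; exact Dvd.intro_left _ rfl)
      rw [h1] at h2
      have := hr.two_le
      nlinarith
  -- the square of a nonsquare element
  have hsq1 : ∀ σ : F ≃+* F, lift (cj (D g 1) * fld σ) ∈ Γ → σ * σ = 1 := by
    intro σ h
    obtain ⟨g', hg'⟩ : ∃ g' : Fˣ, g' = Units.map (σ : F →* F) g := ⟨_, rfl⟩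
    have hsq : ∀ σ' : F ≃+* F, (cj (D g 1) * fld σ') * (cj (D g 1) * fld σ')
        = cj (D (g * Units.map (σ' : F →* F) g) 1) * fld (σ' * σ') := by
      intro σ'
      rw [mul_assoc, ← mul_assoc (fld σ'), fld_cj_D, map_one, ← mul_assoc, ← mul_assoc, ← map_mul,
        D_mul, one_mul, mul_assoc, ← map_mul]
    have h1 : lift (cj (D (g * g') 1) * fld (σ * σ)) ∈ Γ := by
      rw [hg', ← hsq, map_mul]
      exact Γ.mul_mem h h
    have hg'ns : ∀ s : Fˣ, g' ≠ s ^ 2 := by
      intro s hs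
      apply hgns (Units.map (σ.symm : F →* F) s)
      rw [← map_pow, ← hs, hg']
      apply Units.ext
      simp
    obtain ⟨s, hs⟩ : ∃ s : Fˣ, g * g' = s ^ 2 := by
      rcases hdich g' with ⟨s, hs⟩ | ⟨s, hs⟩
      · exact absurd hs (hg'ns s)
      · exact ⟨g' * s, by rw [hs]; simp only [pow_two]; ac_rfl⟩
    have h2 : lift (fld (σ * σ) : MulAut SL2) ∈ Γ := by
      have h3 := hmem _ (D 1 1) (σ * σ) s⁻¹ h1 (by
        rw [D_det, D_det, hs, ← Units.val_pow_eq_pow_val, ← Units.val_mul, ← Units.val_mul,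
          ← Units.val_mul, mul_one, mul_one, inv_pow, mul_inv_cancel])
      rwa [D_one, map_one, one_mul] at h3
    exact hi _ h2
  -- the element of order `q + 1`
  obtain ⟨γ, hγΓ, hγo⟩ := hγ
  obtain ⟨A, σ, rfl⟩ := surj_two p γ
  have hins : ∀ x : PSL2, orderOf (MulAut.conj x) ≠ q + 1 := by
    intro x hx
    have hdvd : orderOf (MulAut.conj x) ∣ orderOf x := orderOf_map_dvd _ x
    rw [hx] at hdvd
    obtain ⟨y, rfl⟩ := Cfsg.Agent.H390.PslSpec.pr_surjective x
    have hdd : Cfsg.Agent.H390.PslSpec.dd (Fintype.card F) = 2 :=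
      Cfsg.Agent.H390.PslSpec.dd_odd (by rw [hFq]; exact Nat.odd_iff.2 hoddq)
    rcases Cfsg.Agent.H390.PslSpec.order_dvd (p := p) y with h1 | h1 | h1
    · have := Nat.le_of_dvd hp.out.pos (hdvd.trans h1)
      omega
    · rw [hdd, hFq] at h1
      have := Nat.le_of_dvd (by omega) (hdvd.trans h1)
      omega
    · rw [hdd, hFq] at h1
      have := Nat.le_of_dvd (by omega) (hdvd.trans h1)
      omega
  have hDσ : lift (cj (D g 1) * fld σ) ∈ Γ := by
    rcases hred A σ hγΓ with ⟨h1, x, hx⟩ | h1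
    · exfalso
      have hσ1 := hi σ h1
      rw [hσ1, map_one, mul_one, hx] at hγo
      exact hins x hγo
    · exact h1
  have hσσ := hsq1 σ hDσ
  have hσ1 : σ = 1 := by
    by_contra hσ1
    have hσ2 : ∀ x, σ (σ x) = x := fun x => RingEquiv.congr_fun hσσ x
    have hσo : orderOf σ = 2 := orderOf_eq_prime (by rw [pow_two, hσσ]) hσ1
    have hf2 : 2 ∣ (f : ℕ) := by
      have h3 := orderOf_dvd_natCard σ
      rw [hσo, Cfsg.Agent.Lib.FieldAutCard.card_ringAut (p := p) (Nat.one_le_iff_ne_zero.2 hf0)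
        (by rw [hFq, hf])] at h3
      exact h3
    have hq4 : q % 4 = 1 := by
      obtain ⟨m, hm⟩ := hf2
      have h3 : (p ^ 2) % 4 = 1 := by
        rw [Nat.pow_mod]
        have : p % 4 = 1 ∨ p % 4 = 3 := by omega
        rcases this with h | h <;> rw [h]
      rw [hf, hm, pow_mul, Nat.pow_mod, h3, one_pow]
      rfl
    obtain ⟨k, hk⟩ : ∃ k, q = 4 * k + 1 := ⟨q / 4, by omega⟩
    obtain ⟨B, hB⟩ := cj_fld_pow A σ (2 * k + 1)
    have hσk : σ ^ (2 * k + 1) = σ := by
      rw [pow_succ, pow_mul, pow_two, hσσ, one_pow, one_mul]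
    rw [hσk] at hB
    have htΓ : lift (cj B * fld σ) ∈ Γ := by
      rw [← hB, map_pow]
      exact Γ.pow_mem hγΓ _
    have ht2 : lift (cj B * fld σ) * lift (cj B * fld σ) = 1 := by
      rw [← hB, map_pow, ← pow_two, ← pow_mul, orderOf_dvd_iff_pow_eq_one.1]
      rw [hγo]
      exact ⟨1, by omega⟩
    -- `B * σ B` is scalar
    obtain ⟨B', hB'⟩ : ∃ B' : GL (Fin 2) F, B' = Matrix.GeneralLinearGroup.map (σ : F →+* F) B := ⟨_, rfl⟩
    have hfc : fld σ * cj B = cj B' * fld σ := by
      rw [hB']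
      apply MulEquiv.ext
      intro x
      apply Subtype.ext
      rw [MulAut.mul_apply, MulAut.mul_apply]
      have hmap : ∀ y : SL2, ((fld σ y : SL2) : Matrix (Fin 2) (Fin 2) F) =
          (y : Matrix (Fin 2) (Fin 2) F).map (σ : F → F) := by
        intro y
        ext i j
        rw [coe_fld_apply, Matrix.map_apply]
      rw [hmap, coe_cj, coe_cj, hmap, Matrix.map_mul, Matrix.map_mul]
      rfl
    have h1 : lift (cj (B * B') * fld (1 : F ≃+* F)) = 1 := by
      rw [← ht2, ← map_mul]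
      congr 1
      rw [mul_assoc, ← mul_assoc (fld σ), hfc, mul_assoc, ← map_mul fld, hσσ, ← mul_assoc, ← map_mul]
    obtain ⟨⟨r, hr⟩, -⟩ := eq_one_of_lift h1
    have hBB : (B : Matrix (Fin 2) (Fin 2) F) * (B' : Matrix (Fin 2) (Fin 2) F) = scalar (Fin 2) r := by
      rw [hr, Units.val_mul]
    have hB'val : (B' : Matrix (Fin 2) (Fin 2) F) = (B : Matrix (Fin 2) (Fin 2) F).map (σ : F → F) := by
      rw [hB']; rfl
    have hmm : ∀ M : Matrix (Fin 2) (Fin 2) F, (M.map (σ : F → F)).map (σ : F → F) = M := by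
      intro M
      ext i j
      rw [Matrix.map_apply, Matrix.map_apply, hσ2]
    have hBB2 : (B' : Matrix (Fin 2) (Fin 2) F) * (B : Matrix (Fin 2) (Fin 2) F) = scalar (Fin 2) (σ r) := by
      have h3 : ((B : Matrix (Fin 2) (Fin 2) F) * (B' : Matrix (Fin 2) (Fin 2) F)).map (σ : F → F) =
          (scalar (Fin 2) r).map (σ : F → F) := by rw [hBB]
      have h4 : ((B : Matrix (Fin 2) (Fin 2) F) * (B' : Matrix (Fin 2) (Fin 2) F)).map (σ : F → F) =
          (B : Matrix (Fin 2) (Fin 2) F).map (σ : F → F) * (B' : Matrix (Fin 2) (Fin 2) F).map (σ : F → F) :=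
        Matrix.map_mul (f := (σ : F →+* F))
      rw [h4, ← hB'val, hB'val, hmm, ← hB'val] at h3
      rw [h3]
      ext i j
      rw [Matrix.map_apply, scalar_apply, scalar_apply]
      by_cases hij : i = j
      · rw [hij, diagonal_apply_eq, diagonal_apply_eq]
      · rw [diagonal_apply_ne _ hij, diagonal_apply_ne _ hij, map_zero]
    have hrr : σ r = r := by
      have h3 : (B : Matrix (Fin 2) (Fin 2) F) * scalar (Fin 2) (σ r) = scalar (Fin 2) r * B := by
        rw [← hBB2, ← mul_assoc, hBB]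
      have h4 : (B : Matrix (Fin 2) (Fin 2) F) * scalar (Fin 2) (σ r) = scalar (Fin 2) (σ r) * B :=
        (Matrix.scalar_commute (σ r) (fun _ => mul_comm _ _) _).eq.symm
      rw [h4] at h3
      have h5 : scalar (Fin 2) (σ r) = (scalar (Fin 2) r : Matrix (Fin 2) (Fin 2) F) := by
        have h6 := congrArg (fun M => M * ((B⁻¹ : GL (Fin 2) F) : Matrix (Fin 2) (Fin 2) F)) h3
        simp only [mul_assoc] at h6
        rw [← Units.val_mul, mul_inv_cancel, Units.val_one, mul_one, mul_one] at h6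
        exact h6
      have h6 := congrFun (congrFun h5 0) 0
      simpa [scalar_apply] using h6
    -- determinants
    obtain ⟨b, hb⟩ : ∃ b : Fˣ, (b : F) = (B : Matrix (Fin 2) (Fin 2) F).det :=
      (Matrix.isUnit_iff_isUnit_det _).1 B.isUnit
    have hdet : (b : F) * σ b = r ^ 2 := by
      have h3 := congrArg Matrix.det hBB
      rw [Matrix.det_mul, scalar_apply, det_diagonal, Finset.prod_const, Finset.card_univ, Fintype.card_fin] at h3
      have h4 : (B' : Matrix (Fin 2) (Fin 2) F).det = σ (B : Matrix (Fin 2) (Fin 2) F).det := by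
        rw [hB'val]
        exact (RingHom.map_det (σ : F →+* F) _).symm
      rw [h4, ← hb] at h3
      exact h3
    obtain ⟨s, hs⟩ := isSquare_of_norm h2F σ hσ1 hσ2 hrr hdet
    have hs0 : s ≠ 0 := by
      rintro rfl
      rw [mul_zero] at hs
      exact b.ne_zero hs
    have h3 := hmem B (D 1 1) σ (Units.mk0 s hs0)⁻¹ htΓ (by
      rw [D_det, ← hb, hs]
      simp only [Units.val_one, Units.val_inv_eq_inv_val, Units.val_mk0]
      field_simp)
    rw [D_one, map_one, one_mul] at h3
    exact hσ1 (hi σ h3)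
  rw [hσ1, map_one, mul_one] at hDσ
  have hall : ∀ A : GL (Fin 2) F, lift (cj A) ∈ Γ := by
    intro A
    obtain ⟨a, ha⟩ : ∃ a : Fˣ, (a : F) = (A : Matrix (Fin 2) (Fin 2) F).det :=
      (Matrix.isUnit_iff_isUnit_det _).1 A.isUnit
    rcases hdich a with ⟨s, hs⟩ | ⟨s, hs⟩
    · obtain ⟨x, hx⟩ := exists_inner (A := (1 : GL (Fin 2) F)) (B := A) (s := s) (by
        rw [Units.val_one, Matrix.det_one, one_mul, ← ha, hs, Units.val_pow_eq_pow_val])
      rw [map_one, map_one, mul_one] at hx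
      rw [hx]
      exact hInn _
    · have h1 := hmem (D g 1) A 1 s⁻¹ (by rw [map_one, mul_one]; exact hDσ) (by
        rw [D_det, ← ha, Units.val_one, mul_one, ← Units.val_pow_eq_pow_val, ← Units.val_mul, hs, inv_pow,
          mul_inv_cancel_right])
      rwa [map_one, mul_one] at h1
  intro α
  constructor
  · intro hα
    obtain ⟨A', σ', rfl⟩ := surj_two p α
    have h1 : lift (fld σ' : MulAut SL2) ∈ Γ := by
      have h2 := Γ.mul_mem (Γ.inv_mem (hall A')) hα
      rwa [map_mul, inv_mul_cancel_left] at h2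
    exact ⟨A', by rw [hi σ' h1, map_one, mul_one]⟩
  · rintro ⟨A', rfl⟩
    exact hall A'

end fin

end Cfsg.Agent.H369.PglAut
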