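import Cfsg.Agent.H369.PglSit
import Cfsg.Agent.H390.PslSpec
import Cfsg.Agent.S2262
import Cfsg.Agent.S0252
import Cfsg.Agent.S0253
import Cfsg.Agent.S0254
import Cfsg.Agent.S0255

/-!
# The row `PSL_2(u)` of the recognition of `PGL_2(q)` (helper369)
-/

set_option autoImplicit false

namespace Cfsg.Agent.H369.Pgl

open Subgroup

/-- the conclusion of the rows, with `4 ≤ |F|` -/
def Goal4 (S : Type*) [Group S] (p : ℕ) : Prop :=
  ∃ (F : Type) (_ : Field F) (_ : Fintype F) (k : ℕ), 4 ≤ Fintype.card F ∧ Fintype.card F = p ^ k ∧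
    Nonempty (S ≃* Matrix.ProjectiveSpecialLinearGroup (Fin 2) F)

/-- orders of automorphisms of `PSL_2(u)` -/
theorem aut_bound {E : Type*} [Field E] [Fintype E] (hE : 4 ≤ Fintype.card E) (hE4 : Fintype.card E ≠ 4)
    (φ : MulAut (Matrix.ProjectiveSpecialLinearGroup (Fin 2) E)) : orderOf φ ≤ Fintype.card E + 1 := by
  have h1 := (Cfsg.Agent.S2262.result (F := E) 2 le_rfl (fun _ => hE) (fun h => hE4 h.2) (fun h => by omega)).1 φ
  set u := Fintype.card E with hu
  obtain ⟨t, ht⟩ : ∃ t, u = t + 4 := ⟨u - 4, by omega⟩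
  have h2 : u ^ 2 - 1 = (u - 1) * (u + 1) := by
    rw [ht]
    have h3 : (t + 4) ^ 2 = (t + 3) * (t + 5) + 1 := by ring
    rw [h3, Nat.add_sub_cancel]
    rfl
  rw [h2] at h1
  exact Nat.le_of_mul_le_mul_left h1 (by omega)

section
variable {S : Type*} [Group S] [Finite S] [IsSimpleGroup S] (hna : ¬ IsMulCommutative S) {p m : ℕ}
  {X : Subgroup (MulAut S)} (H : Sit S p m X)
include hna H

/-- the row, `u ≠ 4` -/
theorem row_psl2_aux {E : Type} [Field E] [Fintype E] (hE : 4 ≤ Fintype.card E) (hE4 : Fintype.card E ≠ 4)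
    (e : S ≃* Matrix.ProjectiveSpecialLinearGroup (Fin 2) E) : Goal4 S p := by
  obtain ⟨r, hr⟩ := CharP.exists E
  have hrp : Fact r.Prime := ⟨(CharP.char_is_prime_or_zero E r).resolve_right (CharP.char_ne_zero_of_finite E r)⟩
  have hp := H.hp
  have hp3 := H.three_le
  have hq := H.le_q
  have hbound : ∀ φ : MulAut S, orderOf φ ≤ Fintype.card E + 1 := by
    intro φ
    have h1 : orderOf (MulAut.congr e φ) = orderOf φ :=
      orderOf_injective (MulAut.congr e).toMonoidHom (MulAut.congr e).injective φ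
    rw [← h1]
    exact aut_bound hE hE4 _
  obtain ⟨x, hx, hxk⟩ := H.kill
  obtain ⟨x', hx', hxk'⟩ := H.kill'
  have hb := hbound x
  have hb' := hbound x'
  have hord : ∀ w : Matrix.ProjectiveSpecialLinearGroup (Fin 2) E, orderOf (e.symm w) = orderOf w := fun w =>
    MulEquiv.orderOf_eq e.symm w
  have hspec : ∀ w : Matrix.ProjectiveSpecialLinearGroup (Fin 2) E,
      orderOf w ∣ p ∨ orderOf w ∣ p ^ m - 1 ∨ orderOf w ∣ p ^ m + 1 := fun w => by
    have := H.specS hna (e.symm w)
    rwa [hord] at this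
  have hiso : ∀ w : Matrix.ProjectiveSpecialLinearGroup (Fin 2) E, p ∣ orderOf w → orderOf w = p := fun w hw => by
    have := H.iso hna (g := e.symm w) (by rwa [hord])
    rwa [hord] at this
  have h11 : Fintype.card E = 11 → p = 5 → p ^ m = 25 → False := by
    intro h1 h2 h3
    obtain ⟨g, hg⟩ := Cfsg.Agent.H390.PslSpec.exists_char (F := E) (p := r)
    obtain ⟨n, hn, hc⟩ := FiniteField.card E r
    have hr11 : r = 11 := by
      have h5 : r ∣ 11 := by rw [← h1, hc]; exact dvd_pow_self r n.ne_zero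
      exact (Nat.prime_dvd_prime_iff_eq hn (by norm_num)).1 h5
    rw [hr11] at hg
    rcases hspec g with h6 | h6 | h6 <;> rw [hg] at h6
    · rw [h2] at h6; norm_num at h6
    · rw [h3] at h6; norm_num at h6
    · rw [h3] at h6; norm_num at h6
  have hG : p = r → Goal4 S p := by
    intro hpr
    obtain ⟨n, hn, hc⟩ := FiniteField.card E r
    exact ⟨E, inferInstance, inferInstance, n, hE, by rw [hpr, hc], ⟨e⟩⟩
  have hpF := Fact.mk hp
  obtain ⟨g, hg⟩ := exists_prime_orderOf_dvd_card' (G := S) p H.dvd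
  obtain ⟨g', hg'⟩ := Cfsg.Agent.H390.PslSpec.pr_surjective (e g)
  have hgo : orderOf (Cfsg.Agent.H390.PslSpec.pr E g') = p := by rw [hg', MulEquiv.orderOf_eq, hg]
  have hexs := Cfsg.Agent.H390.PslSpec.exists_sub (F := E) (p := r) hE
  have hexa := Cfsg.Agent.H390.PslSpec.exists_add (F := E) (p := r) hE
  have hgd := Cfsg.Agent.H390.PslSpec.order_dvd (p := r) g'
  have hds := Cfsg.Agent.H390.PslSpec.dd_dvd_sub (Fintype.card E)
  have hda := Cfsg.Agent.H390.PslSpec.dd_dvd_add (q := Fintype.card E) (by omega)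
  have hdc := Cfsg.Agent.H390.PslSpec.dd_cases (Fintype.card E)
  rw [hgo] at hgd
  by_cases hpr : p = r
  · exact hG hpr
  exfalso
  generalize Fintype.card E = u at *
  generalize Cfsg.Agent.H390.PslSpec.dd u = d at *
  have hcases : u - 1 = p * d ∨ u + 1 = p * d := by
    rcases hgd with h1 | h1 | h1
    · exact absurd ((Nat.prime_dvd_prime_iff_eq hp hrp.out).1 h1) hpr
    · left
      obtain ⟨w, hw⟩ := hexs
      have h2 := hiso w (by rwa [hw])
      rw [hw] at h2
      rw [← h2]
      exact (Nat.div_mul_cancel hds).symm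
    · right
      obtain ⟨w, hw⟩ := hexa
      have h2 := hiso w (by rwa [hw])
      rw [hw] at h2
      rw [← h2]
      exact (Nat.div_mul_cancel hda).symm
  have hp5 : p ≤ 5 := by
    have h1 : u ≤ 2 * p + 1 := by
      rcases hdc with h2 | h2 <;> rw [h2] at hcases <;> omega
    by_contra hcon
    have h2 : p ^ 2 - 1 ≤ 2 * (2 * p + 2) := by omega
    have h3 : 6 * p ≤ p ^ 2 := by nlinarith
    omega
  have hp4 : p ≠ 4 := by
    intro h
    rw [h] at hp
    exact absurd hp (by decide)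
  have hp35 : p = 3 ∨ p = 5 := by omega
  rcases hdc with h2 | h2 <;> rw [h2] at hcases <;> rcases hp35 with h3 | h3 <;>
    rw [h3] at hcases hxk' hxk hq
  · omega
  · omega
  · omega
  · rcases hcases with h4 | h4
    · have h5 : u = 11 := by omega
      refine h11 h5 h3 ?_
      rw [h3]
      omega
    · omega

end

theorem card_zmod5 : Fintype.card (ZMod 5) = 5 := rfl

section
variable {S : Type*} [Group S] [Finite S] [IsSimpleGroup S] (hna : ¬ IsMulCommutative S) {p m : ℕ}
  {X : Subgroup (MulAut S)} (H : Sit S p m X)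
include hna H

/-- **The row `PSL_2(u)`.** -/
theorem row_psl2 {E : Type} [Field E] [Fintype E] (hE : 4 ≤ Fintype.card E)
    (e : S ≃* Matrix.ProjectiveSpecialLinearGroup (Fin 2) E) : Goal4 S p := by
  by_cases hE4 : Fintype.card E = 4
  · have : Fact (Nat.Prime 5) := ⟨by norm_num⟩
    obtain ⟨e1⟩ := Cfsg.Agent.S0252.result hE4
    obtain ⟨e2⟩ := Cfsg.Agent.S0253.result card_zmod5
    exact row_psl2_aux hna H (E := ZMod 5) (by rw [card_zmod5]; norm_num) (by rw [card_zmod5]; norm_num)
      (e.trans (e1.trans e2.symm))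
  · exact row_psl2_aux hna H hE hE4 e

/-- the row `A₅` -/
theorem row_alt5 (e : S ≃* alternatingGroup (Fin 5)) : Goal4 S p := by
  have : Fact (Nat.Prime 5) := ⟨by norm_num⟩
  obtain ⟨e'⟩ := Cfsg.Agent.S0253.result card_zmod5
  exact row_psl2 hna H (E := ZMod 5) (by rw [card_zmod5]; norm_num) (e.trans e'.symm)

/-- the row `A₆` -/
theorem row_alt6 (e : S ≃* alternatingGroup (Fin 6)) : Goal4 S p := by
  have : Fact (Nat.Prime 3) := ⟨by norm_num⟩
  have hc : Nat.card (GaloisField 3 2) = 9 := by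
    rw [GaloisField.card 3 2 (by norm_num)]; norm_num
  have : Fintype (GaloisField 3 2) := Fintype.ofFinite _
  have hc' : Fintype.card (GaloisField 3 2) = 9 := by rw [← Nat.card_eq_fintype_card, hc]
  obtain ⟨e'⟩ := Cfsg.Agent.S0254.result hc'
  exact row_psl2 hna H (E := GaloisField 3 2) (by rw [hc']; norm_num) (e.trans e'.symm)

/-- the row `PSL_3(2)` -/
theorem row_psl32 {E : Type*} [Field E] [Fintype E] (hE : Fintype.card E = 2)
    (e : S ≃* Matrix.ProjectiveSpecialLinearGroup (Fin 3) E) : Goal4 S p := by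
  have : Fact (Nat.Prime 7) := ⟨by norm_num⟩
  have hc : Fintype.card (ZMod 7) = 7 := rfl
  obtain ⟨e'⟩ := Cfsg.Agent.S0255.result hc hE
  exact row_psl2 hna H (E := ZMod 7) (by rw [hc]; norm_num) (e.trans e'.symm)

end

end Cfsg.Agent.H369.Pgl
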