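import Cfsg.Agent.H369.PglNum
import Cfsg.Agent.H390.PslSpec
import Cfsg.Agent.S2261

/-!
# The element orders of `PGL_2(q)` (helper369)

* `pow_formula` : powers of a `2 × 2` matrix with eigenvalues `a, b`;
* `ok_pgl` : the element orders divide `p`, `q - 1` or `q + 1`;
* `exists_char`, `exists_sub`, `exists_add` : elements of orders `p`, `q - 1`, `q + 1`.
-/

set_option autoImplicit false

namespace Cfsg.Agent.H369.Pgl

open Matrix

/-- the group `PGL_2(F)` of the statement -/
abbrev PG (F : Type*) [Field F] := GL (Fin 2) F ⧸ Subgroup.center (GL (Fin 2) F)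

section

variable {K : Type*} [Field K]

theorem cayley (A : Matrix (Fin 2) (Fin 2) K) {a b : K} (h1 : A.trace = a + b) (h2 : A.det = a * b) :
    A * A = (a + b) • A - (a * b) • 1 := by
  rw [Matrix.trace_fin_two] at h1
  rw [Matrix.det_fin_two] at h2
  rw [← h1, ← h2]
  ext i j
  fin_cases i <;> fin_cases j <;>
    simp [Matrix.mul_apply, Fin.sum_univ_two, Matrix.smul_apply, Matrix.sub_apply] <;> ring

theorem pow_formula (A : Matrix (Fin 2) (Fin 2) K) {a b : K} (h1 : A.trace = a + b) (h2 : A.det = a * b) (n : ℕ) :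
    (a - b) • A ^ n = (a ^ n - b ^ n) • A + (a * b ^ n - b * a ^ n) • (1 : Matrix (Fin 2) (Fin 2) K) := by
  induction n with
  | zero => simp
  | succ n ih =>
    have h3 : (a - b) • A ^ (n + 1) = ((a - b) • A ^ n) * A := by rw [pow_succ, smul_mul_assoc]
    rw [h3, ih, add_mul, smul_mul_assoc, smul_mul_assoc, one_mul, cayley A h1 h2]
    module

end

section

variable {F : Type*} [Field F] [Fintype F]

theorem mem_center_iff_scalar (g : GL (Fin 2) F) : g ∈ Subgroup.center (GL (Fin 2) F) ↔
    ∃ r : F, (g : Matrix (Fin 2) (Fin 2) F) = r • 1 := by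
  rw [Matrix.GeneralLinearGroup.center_eq_range_scalar]
  constructor
  · rintro ⟨u, rfl⟩
    refine ⟨u, ?_⟩
    ext i j
    simp [Matrix.GeneralLinearGroup.scalar, Matrix.scalar_apply, Matrix.smul_apply, Matrix.one_apply, Matrix.diagonal_apply]
  · rintro ⟨r, hr⟩
    have hr0 : r ≠ 0 := by
      rintro rfl
      rw [zero_smul] at hr
      exact g.ne_zero hr
    refine ⟨Units.mk0 r hr0, ?_⟩
    apply Units.ext
    rw [hr]
    ext i j
    simp [Matrix.GeneralLinearGroup.scalar, Matrix.scalar_apply, Matrix.smul_apply, Matrix.one_apply, Matrix.diagonal_apply]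

theorem mk_pow_eq_one_iff (g : GL (Fin 2) F) (n : ℕ) : ((g : PG F) ^ n = 1) ↔
    ∃ r : F, (g : Matrix (Fin 2) (Fin 2) F) ^ n = r • 1 := by
  rw [← QuotientGroup.mk_pow, QuotientGroup.eq_one_iff, mem_center_iff_scalar, Units.val_pow_eq_pow_val]

/-- **The element orders of `PGL_2(q)`.** -/
theorem order_pgl (p : ℕ) [hp : Fact p.Prime] [CharP F p] (g : PG F) :
    orderOf g ∣ p ∨ orderOf g ∣ Fintype.card F - 1 ∨ orderOf g ∣ Fintype.card F + 1 := by
  obtain ⟨g, rfl⟩ := QuotientGroup.mk_surjective g
  set A : Matrix (Fin 2) (Fin 2) F := (g : Matrix (Fin 2) (Fin 2) F) with hA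
  have hdet : A.det ≠ 0 := by
    have h1 : IsUnit A := g.isUnit
    exact ((Matrix.isUnit_iff_isUnit_det A).1 h1).ne_zero
  set q := Fintype.card F with hq
  have key : ∀ n : ℕ, (∃ r : F, A ^ n = r • 1) → orderOf (g : PG F) ∣ n := fun n hn =>
    orderOf_dvd_of_pow_eq_one ((mk_pow_eq_one_iff g n).2 hn)
  by_cases hroot : ∃ a : F, a * a - A.trace * a + A.det = 0
  · obtain ⟨a, ha⟩ := hroot
    obtain ⟨b, hb⟩ : ∃ b, b = A.trace - a := ⟨_, rfl⟩
    have h1 : A.trace = a + b := by rw [hb]; ring
    have h2 : A.det = a * b := by rw [hb]; linear_combination ha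
    by_cases hab : a = b
    · left
      apply key
      -- `(A - a)^2 = 0`
      subst hab
      have hc := cayley A h1 h2
      obtain ⟨N, hN⟩ : ∃ N, N = A - a • (1 : Matrix (Fin 2) (Fin 2) F) := ⟨_, rfl⟩
      have hN2 : N * N = 0 := by
        rw [hN, sub_mul, mul_sub, mul_sub, hc]
        simp only [mul_smul_comm, smul_mul_assoc, mul_one, one_mul, smul_smul]
        module
      have hNp : N ^ p = 0 := by
        obtain ⟨c, hc⟩ : ∃ c, p = c + 2 := ⟨p - 2, by have := hp.out.two_le; omega⟩
        rw [hc, pow_add, pow_two, hN2, mul_zero]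
      have hcomm : Commute N (a • (1 : Matrix (Fin 2) (Fin 2) F)) := (Commute.one_right N).smul_right a
      have hAN : A = N + a • 1 := by rw [hN, sub_add_cancel]
      refine ⟨a ^ p, ?_⟩
      rw [hAN, add_pow_char_of_commute (p := p) hcomm, hNp, zero_add, smul_pow, one_pow]
    · right; left
      apply key
      refine ⟨1, ?_⟩
      have ha0 : a ≠ 0 := by
        rintro rfl
        rw [zero_mul] at h2
        exact hdet h2
      have hb0 : b ≠ 0 := by
        rintro rfl
        rw [mul_zero] at h2
        exact hdet h2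
      have h3 := pow_formula A h1 h2 (q - 1)
      rw [FiniteField.pow_card_sub_one_eq_one a ha0, FiniteField.pow_card_sub_one_eq_one b hb0, sub_self, zero_smul,
        zero_add, mul_one, mul_one] at h3
      have h4 := smul_right_injective (Matrix (Fin 2) (Fin 2) F) (sub_ne_zero.2 hab) h3
      rw [h4, one_smul]
  · right; right
    apply key
    let L := AlgebraicClosure F
    let f : F →+* L := algebraMap F L
    have hf : Function.Injective f := f.injective
    obtain ⟨a, ha⟩ : ∃ a : L, a * a - f A.trace * a + f A.det = 0 := by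
      have hdeg : (Polynomial.X ^ 2 - Polynomial.C (f A.trace) * Polynomial.X + Polynomial.C (f A.det) :
          Polynomial L).degree ≠ 0 := by
        have : (Polynomial.X ^ 2 - Polynomial.C (f A.trace) * Polynomial.X + Polynomial.C (f A.det) :
          Polynomial L).degree = 2 := by
          compute_degree!
        rw [this]; norm_num
      obtain ⟨a, ha⟩ := IsAlgClosed.exists_root _ hdeg
      refine ⟨a, ?_⟩
      simpa [Polynomial.IsRoot.def, pow_two] using ha
    obtain ⟨b, hb⟩ : ∃ b, b = f A.trace - a := ⟨_, rfl⟩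
    let A' : Matrix (Fin 2) (Fin 2) L := A.map f
    have ht' : A'.trace = f A.trace := by
      rw [Matrix.trace_fin_two, Matrix.trace_fin_two, map_add]; rfl
    have hd' : A'.det = f A.det := by
      rw [Matrix.det_fin_two, Matrix.det_fin_two, map_sub, map_mul, map_mul]; rfl
    have h1 : A'.trace = a + b := by rw [ht', hb]; ring
    have h2 : A'.det = a * b := by rw [hd', hb]; linear_combination ha
    have ha' : a ^ q ≠ a := by
      intro h3
      obtain ⟨c, hc⟩ := H390.PslSpec.mem_range_of_pow_card f h3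
      apply hroot
      refine ⟨c, hf ?_⟩
      rw [map_zero, ← ha, ← hc, map_add, map_sub, map_mul, map_mul]
    have hfr : ∀ c : F, (f c) ^ q = f c := fun c => by rw [← map_pow, FiniteField.pow_card]
    -- the Frobenius map permutes the roots
    have hchar : CharP L p := charP_of_injective_algebraMap hf p
    obtain ⟨e, he⟩ : ∃ e : ℕ, q = p ^ e := by
      obtain ⟨e, -, he⟩ := FiniteField.card F p
      exact ⟨e, he⟩
    have hexpand : ∀ x y : L, (x + y) ^ q = x ^ q + y ^ q := by
      intro x y
      rw [he]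
      exact add_pow_char_pow x y p e
    have hsubq : ∀ x y : L, (x - y) ^ q = x ^ q - y ^ q := by
      intro x y
      rw [he]
      exact sub_pow_char_pow x y e
    have hq0 : q ≠ 0 := Fintype.card_ne_zero
    have hrootq : a ^ q * a ^ q - f A.trace * a ^ q + f A.det = 0 := by
      have h3 : (a * a - f A.trace * a + f A.det) ^ q = 0 ^ q := by rw [ha]
      rw [hexpand, hsubq, mul_pow, mul_pow, hfr, hfr, zero_pow hq0] at h3
      exact h3
    have hab : a ^ q = b := by
      have h3 : (a ^ q - a) * (a ^ q - b) = 0 := by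
        rw [hb]
        linear_combination hrootq - ha
      rcases mul_eq_zero.1 h3 with h4 | h4
      · exact absurd (sub_eq_zero.1 h4) ha'
      · exact sub_eq_zero.1 h4
    have hba : b ^ q = a := by
      have h3 : f A.trace = a + b := by rw [hb]; ring
      have h4 : b ^ q = f A.trace - a ^ q := by rw [hb, hsubq, hfr]
      rw [h4, hab, h3]; ring
    have hne : a - b ≠ 0 := by
      intro h3
      apply ha'
      rw [hab]
      exact (sub_eq_zero.1 h3).symm
    have h3 := pow_formula A' h1 h2 (q + 1)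
    have h4 : A' ^ (q + 1) = (a * b) • 1 := by
      apply smul_right_injective (Matrix (Fin 2) (Fin 2) L) hne
      simp only
      rw [h3, pow_succ, pow_succ, hab, hba]
      module
    refine ⟨A.det, ?_⟩
    have h5 : (A ^ (q + 1)).map f = (A.det • (1 : Matrix (Fin 2) (Fin 2) F)).map f := by
      have h6 : (A ^ (q + 1)).map f = A' ^ (q + 1) := by
        have := map_pow (RingHom.mapMatrix (m := Fin 2) f) A (q + 1)
        exact this
      have h7 : a * b = f A.det := by rw [← h2, hd']
      rw [h6, h4, h7]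
      ext i j
      simp [Matrix.map_apply, Matrix.smul_apply, Matrix.one_apply, apply_ite f]
    exact Matrix.map_injective hf h5

/-- an element of order `q + 1` -/
theorem exists_add : ∃ g : PG F, orderOf g = Fintype.card F + 1 := by
  obtain ⟨-, g, hg⟩ := Cfsg.Agent.S2261.result (F := F) 2 (by norm_num)
  refine ⟨g, ?_⟩
  have h1 : 1 < Fintype.card F := Fintype.one_lt_card
  obtain ⟨t, ht⟩ : ∃ t, Fintype.card F = t + 1 := ⟨Fintype.card F - 1, by omega⟩
  rw [ht] at hg ⊢
  have h2 : (t + 1) ^ 2 - 1 = t * (t + 2) := by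
    have : (t + 1) ^ 2 = t * (t + 2) + 1 := by ring
    omega
  rw [h2, Nat.add_sub_cancel] at hg
  exact Nat.eq_of_mul_eq_mul_left (by omega) hg

/-- an element of order `q - 1` -/
theorem exists_sub : ∃ g : PG F, orderOf g = Fintype.card F - 1 := by
  classical
  obtain ⟨w, hw⟩ := IsCyclic.exists_generator (α := Fˣ)
  have hwo : orderOf w = Fintype.card F - 1 := by
    rw [orderOf_eq_card_of_forall_mem_zpowers hw, Nat.card_eq_fintype_card, Fintype.card_units]
  let g : GL (Fin 2) F := ⟨Matrix.diagonal ![(w : F), 1], Matrix.diagonal ![((w⁻¹ : Fˣ) : F), 1], by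
    rw [Matrix.diagonal_mul_diagonal, ← Matrix.diagonal_one]
    congr 1
    funext i
    fin_cases i <;> simp, by
    rw [Matrix.diagonal_mul_diagonal, ← Matrix.diagonal_one]
    congr 1
    funext i
    fin_cases i <;> simp⟩
  refine ⟨(g : PG F), ?_⟩
  rw [← hwo]
  apply H390.PslSpec.orderOf_eq_of_pow_iff
  intro n
  rw [mk_pow_eq_one_iff]
  have h1 : ((g : Matrix (Fin 2) (Fin 2) F)) ^ n = Matrix.diagonal ![(w : F) ^ n, 1] := by
    change (Matrix.diagonal ![(w : F), 1]) ^ n = _
    rw [Matrix.diagonal_pow]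
    congr 1
    funext i
    fin_cases i <;> simp
  rw [h1, orderOf_dvd_iff_pow_eq_one]
  constructor
  · rintro ⟨r, hr⟩
    have e0 := congrFun (congrFun hr 0) 0
    have e1 := congrFun (congrFun hr 1) 1
    simp at e0 e1
    apply Units.ext
    rw [Units.val_pow_eq_pow_val, e0, ← e1, Units.val_one]
  · intro h2
    refine ⟨1, ?_⟩
    have h3 : (w : F) ^ n = 1 := by rw [← Units.val_pow_eq_pow_val, h2, Units.val_one]
    rw [h3, one_smul, ← Matrix.diagonal_one]
    congr 1
    funext i
    fin_cases i <;> simp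

/-- an element of order `p` -/
theorem exists_char (p : ℕ) [hp : Fact p.Prime] [CharP F p] : ∃ g : PG F, orderOf g = p := by
  let g : GL (Fin 2) F := ⟨!![1, 1; 0, 1], !![1, -1; 0, 1], by
    rw [Matrix.mul_fin_two, Matrix.one_fin_two]; simp, by
    rw [Matrix.mul_fin_two, Matrix.one_fin_two]; simp⟩
  have hpow : ∀ n : ℕ, ((g : Matrix (Fin 2) (Fin 2) F)) ^ n = !![1, (n : F); 0, 1] := by
    intro n
    induction n with
    | zero => simp [Matrix.one_fin_two]
    | succ n ih =>
      rw [pow_succ, ih]
      change _ * !![(1 : F), 1; 0, 1] = _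
      rw [Matrix.mul_fin_two]
      simp [add_comm]
  refine ⟨(g : PG F), ?_⟩
  apply orderOf_eq_prime
  · rw [mk_pow_eq_one_iff]
    refine ⟨1, ?_⟩
    rw [hpow, CharP.cast_eq_zero, one_smul, Matrix.one_fin_two]
  · intro h1
    have h2 := (mk_pow_eq_one_iff g 1).1 (by rw [pow_one]; exact h1)
    obtain ⟨r, hr⟩ := h2
    rw [hpow] at hr
    have e0 := congrFun (congrFun hr 0) 1
    simp at e0

end

end Cfsg.Agent.H369.Pgl
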