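import Cfsg.Agent.H369.PglFrame
import Cfsg.Agent.H369.PglSpec
import Cfsg.Agent.H369.PglPslTwo
import Cfsg.Agent.H369.PglAut
import Cfsg.Agent.H363.PslCard
import Cfsg.Agent.H371.EvenTwo
import Cfsg.Agent.SmallSimple.PSLTwoPart

/-!
# Recognition of `PGL_2(q)`: the end (helper369)

* `even_case` : `q` even;
* `finish` : `G` in the frame with `S ≃ PSL_2(p ^ k)` is `PGL_2(p ^ m)`.
-/

set_option autoImplicit false

namespace Cfsg.Agent.H369.Pgl

open Subgroup Matrix

universe u v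

/-- `PSL_2(q) = PGL_2(q)` for even `q` -/
theorem psl_equiv_pg_even {F : Type*} [Field F] [Fintype F] (heven : Even (Fintype.card F)) :
    Nonempty (Matrix.ProjectiveSpecialLinearGroup (Fin 2) F ≃* PG F) := by
  let φ : Matrix.SpecialLinearGroup (Fin 2) F →* PG F :=
    (QuotientGroup.mk' (Subgroup.center (GL (Fin 2) F))).comp Matrix.SpecialLinearGroup.toGL
  have hker : φ.ker = Subgroup.center (Matrix.SpecialLinearGroup (Fin 2) F) := by
    ext A
    rw [MonoidHom.mem_ker, ← Matrix.SpecialLinearGroup.toGL_mem_center_iff]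
    exact QuotientGroup.eq_one_iff _
  have hsurj : Function.Surjective φ := by
    intro y
    obtain ⟨A, rfl⟩ := QuotientGroup.mk_surjective y
    have hchar : ringChar F = 2 := by
      by_contra h
      have h1 := FiniteField.odd_card_of_char_ne_two h
      rw [Nat.even_iff] at heven
      omega
    obtain ⟨s, hs⟩ := FiniteField.isSquare_of_char_two hchar (A : Matrix (Fin 2) (Fin 2) F).det
    have hdet : (A : Matrix (Fin 2) (Fin 2) F).det ≠ 0 := by
      have := (Matrix.isUnit_iff_isUnit_det _).1 A.isUnit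
      exact this.ne_zero
    have hs0 : s ≠ 0 := by
      rintro rfl
      rw [mul_zero] at hs
      exact hdet hs
    have hdet1 : (s⁻¹ • (A : Matrix (Fin 2) (Fin 2) F)).det = 1 := by
      rw [Matrix.det_smul, Fintype.card_fin, hs]
      field_simp
    obtain ⟨C, hC⟩ : ∃ C : Matrix.SpecialLinearGroup (Fin 2) F, (C : Matrix (Fin 2) (Fin 2) F) =
        s⁻¹ • (A : Matrix (Fin 2) (Fin 2) F) := ⟨⟨_, hdet1⟩, rfl⟩
    refine ⟨C, QuotientGroup.eq.2 ?_⟩
    rw [mem_center_iff_scalar]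
    refine ⟨s, ?_⟩
    obtain ⟨C', hC'⟩ : ∃ C' : GL (Fin 2) F, C' = Matrix.SpecialLinearGroup.toGL C := ⟨_, rfl⟩
    have hC'v : (C' : Matrix (Fin 2) (Fin 2) F) = s⁻¹ • (A : Matrix (Fin 2) (Fin 2) F) := by
      rw [hC']; exact hC
    have h1 : (A : Matrix (Fin 2) (Fin 2) F) = s • (C' : Matrix (Fin 2) (Fin 2) F) := by
      rw [hC'v, smul_smul, mul_inv_cancel₀ hs0, one_smul]
    rw [← hC', Units.val_mul]
    calc ((C'⁻¹ : GL (Fin 2) F) : Matrix (Fin 2) (Fin 2) F) * (A : Matrix (Fin 2) (Fin 2) F)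
        = ((C'⁻¹ : GL (Fin 2) F) : Matrix (Fin 2) (Fin 2) F) * (s • (C' : Matrix (Fin 2) (Fin 2) F)) := by rw [← h1]
      _ = s • 1 := by rw [Matrix.mul_smul, ← Units.val_mul, inv_mul_cancel, Units.val_one]
  exact ⟨(QuotientGroup.quotientMulEquivOfEq hker.symm).trans (QuotientGroup.quotientKerEquivOfSurjective φ hsurj)⟩

/-- **`q` even.** -/
theorem even_case {G : Type*} [Group G] [Finite G] {F : Type*} [Field F] [Fintype F] (hq : 4 ≤ Fintype.card F)
    (heven : Even (Fintype.card F))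
    (hspec : Set.range (orderOf : G → ℕ) = Set.range (orderOf : PG F → ℕ)) : Nonempty (G ≃* PG F) := by
  obtain ⟨e⟩ := psl_equiv_pg_even heven
  obtain ⟨e'⟩ := Cfsg.Agent.H371.EvenTwo.even_case (G := G) hq heven
    (hspec.trans (Cfsg.Agent.H363.PslCard.spec_of_equiv e).1.symm)
  exact ⟨e'.trans e⟩

/-- the matrices giving the trivial automorphism -/
theorem lift_cj_eq_one_iff {F : Type*} [Field F] [Fintype F] (A : GL (Fin 2) F) :
    Cfsg.Agent.ClassicalGeometry.AutPSL.Auto.lift (Cfsg.Agent.ClassicalGeometry.AutPSL.Auto.cj A) = 1 ↔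
      A ∈ Subgroup.center (GL (Fin 2) F) := by
  rw [mem_center_iff_scalar]
  constructor
  · intro h
    obtain ⟨⟨r, hr⟩, -⟩ := Cfsg.Agent.H371.OutTwo.eq_one_of_lift (A := A) (σ := 1) (by rw [map_one, mul_one, h])
    exact ⟨r, by rw [← hr, Matrix.scalar_apply, Matrix.smul_one_eq_diagonal]⟩
  · rintro ⟨r, hr⟩
    rw [Cfsg.Agent.ClassicalGeometry.AutPSL.Main.cj_eq_one_of_scalar (r := r)
      (by rw [hr, Matrix.scalar_apply, Matrix.smul_one_eq_diagonal]), map_one]

/-- `PGL_2(q)` as a group of automorphisms -/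
theorem pg_equiv {F : Type*} [Field F] [Fintype F]
    (Γ : Subgroup (MulAut (Matrix.ProjectiveSpecialLinearGroup (Fin 2) F)))
    (hΓ : ∀ α, α ∈ Γ ↔ ∃ A : GL (Fin 2) F, α = Cfsg.Agent.ClassicalGeometry.AutPSL.Auto.lift
      (Cfsg.Agent.ClassicalGeometry.AutPSL.Auto.cj A)) : Nonempty (Γ ≃* PG F) := by
  let φ : GL (Fin 2) F →* MulAut (Matrix.ProjectiveSpecialLinearGroup (Fin 2) F) :=
    Cfsg.Agent.ClassicalGeometry.AutPSL.Auto.lift.comp Cfsg.Agent.ClassicalGeometry.AutPSL.Auto.cj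
  have hker : φ.ker = Subgroup.center (GL (Fin 2) F) := by
    ext A
    rw [MonoidHom.mem_ker]
    exact lift_cj_eq_one_iff A
  have hrange : φ.range = Γ := by
    ext α
    rw [hΓ, MonoidHom.mem_range]
    constructor
    · rintro ⟨A, hA⟩
      exact ⟨A, hA.symm⟩
    · rintro ⟨A, hA⟩
      exact ⟨A, hA.symm⟩
  exact ⟨((QuotientGroup.quotientMulEquivOfEq hker.symm).trans
    ((QuotientGroup.quotientKerEquivRange φ).trans (MulEquiv.subgroupCongr hrange))).symm⟩

variable {p m : ℕ} {G : Type u} [Group G] [Finite G]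

/-- **The end.** -/
theorem finish (num : Num p m) (h : OkG G p m) {F : Type v} [Field F] [Fintype F] (hF : Fintype.card F = p ^ m)
    (hadd : ∃ g : G, orderOf g = p ^ m + 1) {K : Subgroup G} [K.Normal] {S : Subgroup (G ⧸ K)} [S.Normal]
    (fr : Fr G p m K S) (hg : Goal4 ↥S p) : Nonempty (G ≃* PG F) := by
  obtain ⟨E, _, _, k, hE4, hE, ⟨e⟩⟩ := hg
  have hsim := fr.simple
  have hna := fr.nonab
  have H := fr.sit
  have hp := num.hp
  have hpF := Fact.mk hp
  have hp3 := num.three_le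
  have hoddE : Odd (Fintype.card E) := by rw [hE]; exact (hp.odd_of_ne_two num.hp2).pow
  have hne4 : Fintype.card E ≠ 4 := by
    intro h4
    rw [h4] at hoddE
    exact absurd hoddE (by decide)
  have hbound : ∀ φ : MulAut ↥S, orderOf φ ≤ p ^ k + 1 := by
    intro φ
    have h1 : orderOf (MulAut.congr e φ) = orderOf φ :=
      orderOf_injective (MulAut.congr e).toMonoidHom (MulAut.congr e).injective φ
    rw [← h1, ← hE]
    exact aut_bound hE4 hne4 _
  -- `k ≥ 2`
  have hk0 : k ≠ 0 := by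
    rintro rfl
    rw [pow_zero] at hE
    omega
  have hk2 : 2 ≤ k := by
    by_contra hcon
    have hk1 : k = 1 := by omega
    obtain ⟨x, hx, hxk⟩ := H.kill'
    have h1 := hbound x
    rw [hk1, pow_one] at h1 hE
    have h2 : p ^ 2 - 1 ≤ 2 * (p + 1) := by omega
    have h3 : p ≤ 3 := by
      by_contra hc
      have h4 : 4 * p ≤ p ^ 2 := by nlinarith
      omega
    omega
  -- `K = 1`
  have hK : K = ⊥ := by
    by_contra hK
    have hcK : Nat.card K ≠ 1 := fun h1 => hK (Subgroup.card_eq_one.1 h1)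
    obtain ⟨b, hb, hbK⟩ := Nat.exists_prime_and_dvd hcK
    obtain ⟨P⟩ : Nonempty (Sylow p ↥S) := inferInstance
    have hcyc : IsCyclic P := by
      refine cyclic_of num h K fr.nil hb hbK hp num.hp2 fr.not_dvd ?_ S.subtype S.subtype_injective P
      intro k hk hbk
      exact num.not_adj hb.two_le (hk.of_dvd (by rwa [mul_comm] at hbk))
    have hpS : p ^ 2 ∣ Nat.card ↥S := by
      have h1 := Cfsg.Agent.SmallSimple.PSLTwoPart.card_psl_two_odd hoddE
      rw [← Nat.card_congr e.toEquiv] at h1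
      have h2 : p ^ 2 ∣ 2 * Nat.card ↥S := by
        rw [h1, hE]
        exact (pow_dvd_pow p hk2).mul_right _
      have h3 : (p ^ 2).Coprime 2 := Nat.Coprime.pow_left 2 ((Nat.coprime_primes hp Nat.prime_two).2 num.hp2)
      exact h3.dvd_of_dvd_mul_left h2
    have hpP : p ^ 2 ∣ Nat.card P := P.pow_dvd_card_of_pow_dvd_card hpS
    obtain ⟨x, hx⟩ := IsCyclic.exists_ofOrder_eq_natCard (α := P)
    have h1 : p ∣ orderOf (x : ↥S) := by
      rw [Subgroup.orderOf_coe, hx]
      exact (dvd_pow_self p two_ne_zero).trans hpP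
    have h2 := H.iso hna h1
    rw [Subgroup.orderOf_coe, hx] at h2
    rw [h2] at hpP
    have h3 := Nat.le_of_dvd hp.pos hpP
    nlinarith
  -- the embedding
  have hinjS := conjNormal_inj S fr.cent
  let ψ : G →* MulAut ↥S := (MulAut.conjNormal : G ⧸ K →* MulAut ↥S).comp (QuotientGroup.mk' K)
  have hψr : ψ.range = (MulAut.conjNormal : G ⧸ K →* MulAut ↥S).range := by
    rw [MonoidHom.range_comp, MonoidHom.range_eq_top.2 (QuotientGroup.mk'_surjective K), ← MonoidHom.range_eq_map]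
  have hmki : Function.Injective (QuotientGroup.mk' K) := by
    rw [injective_iff_map_eq_one]
    intro x hx
    have h1 : x ∈ K := (QuotientGroup.eq_one_iff x).1 hx
    rw [hK] at h1
    exact mem_bot.1 h1
  have hψi : Function.Injective ψ := hinjS.comp hmki
  obtain ⟨γ, hγ⟩ := hadd
  have hγψ : orderOf (ψ γ) = p ^ m + 1 := by rw [orderOf_injective ψ hψi, hγ]
  -- `k = m`
  have hkm : k = m := by
    have h1 : p ^ m ≤ p ^ k := by
      have := hbound (ψ γ)
      omega
    have h2 : m ≤ k := (Nat.pow_le_pow_iff_right hp.one_lt).1 h1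
    have h3 : p ^ k < p ^ (m + 1) := by
      obtain ⟨r, hr⟩ := CharP.exists E
      have hrp : Fact r.Prime := ⟨(CharP.char_is_prime_or_zero E r).resolve_right (CharP.char_ne_zero_of_finite E r)⟩
      obtain ⟨g, hg⟩ := Cfsg.Agent.H390.PslSpec.exists_add (F := E) (p := r) hE4
      rw [Cfsg.Agent.H390.PslSpec.dd_odd hoddE, hE] at hg
      have h4 := H.specS hna (e.symm g)
      rw [MulEquiv.orderOf_eq, hg] at h4
      have hq := num.le_q
      have hpq : p ≤ p ^ m := Nat.le_of_dvd (by omega) num.dvd_q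
      have h5 : (p ^ k + 1) / 2 ≤ p ^ m + 1 := by
        rcases h4 with h4 | h4 | h4
        · have := Nat.le_of_dvd hp.pos h4
          omega
        · have := Nat.le_of_dvd (by omega) h4
          omega
        · exact Nat.le_of_dvd (by omega) h4
      have h6 : 3 * p ^ m ≤ p ^ (m + 1) := by
        rw [pow_succ, mul_comm]
        exact Nat.mul_le_mul_left _ hp3
      omega
    have h4 : k < m + 1 := (Nat.pow_lt_pow_iff_right hp.one_lt).1 h3
    omega
  subst hkm
  obtain ⟨e0⟩ := Cfsg.Agent.H363.PslCard.psl_of_card (n := Fin 2) (F := E) (F' := F) (by rw [hE, hF])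
  obtain ⟨r, hr⟩ := CharP.exists F
  obtain ⟨n, hn, hc⟩ := FiniteField.card F r
  have hrp : r = p := by
    have h1 : r ∣ p ^ k := by rw [← hF, hc]; exact dvd_pow_self r n.ne_zero
    exact (Nat.prime_dvd_prime_iff_eq hn hp).1 (hn.dvd_of_dvd_pow h1)
  subst hrp
  have H' := H.congr (e.trans e0)
  let Θ : MulAut ↥S →* MulAut (Matrix.ProjectiveSpecialLinearGroup (Fin 2) F) :=
    (MulAut.congr (e.trans e0)).toMonoidHom
  have hΘi : Function.Injective Θ := (MulAut.congr (e.trans e0)).injective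
  have hmem := Cfsg.Agent.H369.PglAut.mem_iff (F := F) (p := r) num.hp2 (q := r ^ k) hF
    (by have := num.le_q; omega) _ H'.inn (fun α hα hp => H'.isoX hα hp)
    ⟨Θ (ψ γ), ⟨ψ γ, ⟨QuotientGroup.mk' K γ, rfl⟩, rfl⟩, by rw [orderOf_injective Θ hΘi, hγψ]⟩
  obtain ⟨e1⟩ := pg_equiv _ hmem
  -- `G ≃ Γ`
  have hr1 : (Θ.comp ψ).range = ((MulAut.conjNormal : G ⧸ K →* MulAut ↥S).range).map Θ := by
    rw [MonoidHom.range_comp, hψr]
  have e2 : G ≃* (Θ.comp ψ).range :=
    MonoidHom.ofInjective (f := Θ.comp ψ) (hΘi.comp hψi)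
  exact ⟨(e2.trans (MulEquiv.subgroupCongr hr1)).trans e1⟩

end Cfsg.Agent.H369.Pgl
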