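import Cfsg.Agent.H369.PglFrame
import Cfsg.Agent.H414.Rad
import Cfsg.Agent.H375.InvFix

/-!
# Recognition of `PGL_2(q)`: the exceptional simple groups of the reduction (helper369)
-/

set_option autoImplicit false

namespace Cfsg.Agent.H369.Pgl

open Subgroup

theorem two_dvd_card {S : Type*} [Group S] [Finite S] [IsSimpleGroup S] (hna : ¬ IsMulCommutative S) :
    2 ∣ Nat.card S := by
  by_contra h
  have hodd : Odd (Nat.card S) := by rw [← Nat.not_even_iff_odd, even_iff_two_dvd]; exact h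
  have hs := Cfsg.Agent.S0205.result hodd
  exact hna ⟨⟨IsSimpleGroup.comm_iff_isSolvable.2 hs⟩⟩

/-- the exceptions `A₇`, `L₂(u)` fix a class of involutions -/
theorem invFix_of_altL2 {S : Type*} [Group S] [Finite S] [IsSimpleGroup S] (hna : ¬ IsMulCommutative S)
    (hA : Cfsg.Agent.H414.Rad.AltL2 S) (p : ℕ) : Cfsg.Agent.H375.InvFix p S := by
  rcases hA with ⟨⟨e⟩⟩ | ⟨F, _, _, hodd, ⟨e⟩⟩
  · exact (Cfsg.Agent.H375.invFix_alt le_rfl p).congr e.symm
  · have h1 : Cfsg.Agent.H375.OneInv S := (Cfsg.Agent.H375.oneInv_psl_odd hodd).congr e.symm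
    exact h1.invFix (two_dvd_card hna) p

end Cfsg.Agent.H369.Pgl
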