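import Cfsg.Agent.H369.PglCore
import Cfsg.Agent.Solvable.FpfPrime
import Cfsg.Agent.OddOrderLocal.CNMaxNil
import Cfsg.Agent.OddOrderLocal.CNBasic

/-!
# Recognition of `PGL_2(q)`: the reduction (helper369)

`frame_of` : `G` a finite group with the element orders of `PGL_2(q)` (`q = p ^ m` odd, `m ≥ 2`, `q ≠ 9`), `K` a soluble
normal subgroup such that `G / K` is almost simple with socle `S`: then `K` is nilpotent of order prime to `p` and `S` is
in the situation `Sit`.
-/

set_option autoImplicit false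

namespace Cfsg.Agent.H369.Pgl

open Subgroup Cfsg.Agent.H348

universe u

variable {p m : ℕ}

theorem orderOf_mk_of_coprime {G : Type*} [Group G] [Finite G] (K : Subgroup G) [K.Normal] (g : G)
    (h : (orderOf g).Coprime (Nat.card K)) : orderOf (QuotientGroup.mk' K g) = orderOf g :=
  Cfsg.Agent.H375.Reduce.orderOf_mk K g h

/-- `p` does not divide the order of a soluble normal subgroup -/
theorem not_dvd_radical {G : Type u} [Group G] [Finite G] (num : Num p m) (h : OkG G p m) (K : Subgroup G) [K.Normal]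
    (hK : Group.IsSolvable K) (hns : ¬ Group.IsSolvable G) {y : G} (hy : orderOf y = nn (p ^ m))
    (hcop : p ∣ Nat.card K → (nn (p ^ m)).Coprime (Nat.card K)) : ¬ p ∣ Nat.card K := by
  intro hpK
  have hcop := hcop hpK
  obtain ⟨H, N, hH, hN, hNH, hHK, hHN, hc, hpow⟩ :=
    Cfsg.Agent.H375.Reduce.exists_elem_prime num.hp _ K le_rfl inferInstance hK hpK
  have hNK : N ≤ K := hNH.trans hHK
  let ψ : G →* G ⧸ N := QuotientGroup.mk' N
  have hψ : ∀ {x : G}, ψ x = 1 ↔ x ∈ N := fun {x} => QuotientGroup.eq_one_iff x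
  have hVn : (H.map ψ).Normal := hH.map ψ (QuotientGroup.mk'_surjective N)
  refine no_section (Γ := G ⧸ N) num (h.quot N) (H.map ψ) (hVn := hVn) ?_ ?_ ?_ ?_ (y := ψ y) ?_
  · rintro _ ⟨a, ha, rfl⟩ _ ⟨b, hb, rfl⟩
    have h1 : ψ (a * b * a⁻¹ * b⁻¹) = 1 := hψ.2 (hc a ha b hb)
    rw [map_mul, map_mul, map_mul, map_inv, map_inv] at h1
    have h2 := mul_inv_eq_one.1 h1
    exact mul_inv_eq_iff_eq_mul.1 h2
  · intro h1
    apply hHN
    intro x hx
    apply hψ.1
    have h2 : ψ x ∈ H.map ψ := ⟨x, hx, rfl⟩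
    rw [h1] at h2
    exact mem_bot.1 h2
  · rintro _ ⟨a, ha, rfl⟩
    rw [← map_pow]
    exact hψ.2 (hpow a ha)
  · intro hs
    apply hns
    have hNs : Group.IsSolvable N := by
      have : Group.IsSolvable K := hK
      exact Group.isSolvable_of_isSolvable_injective (f := Subgroup.inclusion hNK) (Subgroup.inclusion_injective hNK)
    exact Group.isSolvable_of_ker_le_range N.subtype (QuotientGroup.mk' N)
      (by rw [QuotientGroup.ker_mk', Subgroup.range_subtype])
  · rw [← hy]
    apply orderOf_mk_of_coprime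
    rw [hy]
    exact Nat.Coprime.coprime_dvd_right (Subgroup.card_dvd_of_le hNK) hcop

/-- the conclusion of the reduction -/
structure Fr (G : Type u) [Group G] (p m : ℕ) (K : Subgroup G) [K.Normal] (S : Subgroup (G ⧸ K)) [S.Normal] :
    Prop where
  simple : IsSimpleGroup ↥S
  nonab : ¬ IsMulCommutative ↥S
  cent : centralizer (S : Set (G ⧸ K)) = ⊥
  nil : Group.IsNilpotent ↥K
  not_dvd : ¬ p ∣ Nat.card K
  not_dvd' : ¬ p ∣ S.index
  sit : Sit ↥S p m (MulAut.conjNormal : G ⧸ K →* MulAut ↥S).range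

/-- the elements of order dividing `b` of the centre of `K` -/
def omegaZ {G : Type*} [Group G] (K : Subgroup G) (b : ℕ) : Subgroup G where
  carrier := {x | x ∈ K ∧ (∀ k ∈ K, k * x = x * k) ∧ x ^ b = 1}
  one_mem' := ⟨K.one_mem, fun k _ => by rw [mul_one, one_mul], one_pow b⟩
  mul_mem' := by
    rintro x y ⟨hx1, hx2, hx3⟩ ⟨hy1, hy2, hy3⟩
    refine ⟨K.mul_mem hx1 hy1, fun k hk => ?_, ?_⟩
    · rw [← mul_assoc, hx2 k hk, mul_assoc, hy2 k hk, mul_assoc]
    · have hc : Commute x y := (hy2 x hx1)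
      rw [hc.mul_pow, hx3, hy3, one_mul]
  inv_mem' := by
    rintro x ⟨hx1, hx2, hx3⟩
    refine ⟨K.inv_mem hx1, fun k hk => ?_, by rw [inv_pow, hx3, inv_one]⟩
    have hc : Commute k x := hx2 k hk
    exact hc.inv_right.eq

theorem omegaZ_normal {G : Type*} [Group G] (K : Subgroup G) [hK : K.Normal] (b : ℕ) : (omegaZ K b).Normal := by
  constructor
  rintro x ⟨hx1, hx2, hx3⟩ g
  refine ⟨hK.conj_mem x hx1 g, fun k hk => ?_, ?_⟩
  · have h1 := hx2 (g⁻¹ * k * g) (by
      have := hK.conj_mem k hk g⁻¹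
      rwa [inv_inv] at this)
    calc k * (g * x * g⁻¹) = g * ((g⁻¹ * k * g) * x) * g⁻¹ := by group
      _ = g * (x * (g⁻¹ * k * g)) * g⁻¹ := by rw [h1]
      _ = g * x * g⁻¹ * k := by group
  · rw [conj_pow, hx3, mul_one, mul_inv_cancel]

section

variable {G : Type u} [Group G] [Finite G]

/-- `K` is nilpotent -/
theorem nilpotent_of (num : Num p m) (h : OkG G p m) (hexp : ∃ g : G, orderOf g = p) (K : Subgroup G) [K.Normal]
    (hK : Group.IsSolvable K) (hpK : ¬ p ∣ Nat.card K) : Group.IsNilpotent K := by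
  obtain ⟨x, hx⟩ := hexp
  have hpow : ∀ (n : ℕ) (k : K), ((MulAut.conjNormal x : MulAut K)^[n]) k = (MulAut.conjNormal (x ^ n) : MulAut K) k := by
    intro n
    induction n with
    | zero => intro k; simp
    | succ n ih =>
      intro k
      rw [Function.iterate_succ_apply', ih, pow_succ', map_mul, MulAut.mul_apply]
  refine Cfsg.Agent.Solvable.FpfPrime.isNilpotent_of_isSolvable hK (MulAut.conjNormal x : MulAut K) p num.hp ?_ ?_
  · intro k
    rw [hpow, ← hx, pow_orderOf_eq_one, map_one]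
    rfl
  · intro k hk
    have h1 : x * (k : G) * x⁻¹ = k := congrArg Subtype.val hk
    have h2 : Commute x (k : G) := mul_inv_eq_iff_eq_mul.1 h1
    have h3 := comm_p num h hx h2
    have h4 : k ^ p = 1 := Subtype.ext h3
    have h5 : k ^ Nat.card K = 1 := pow_card_eq_one'
    have h6 : p.Coprime (Nat.card K) := (Nat.Prime.coprime_iff_not_dvd num.hp).2 hpK
    have h7 : orderOf k ∣ 1 := by
      rw [← Nat.coprime_iff_gcd_eq_one.1 h6]
      exact Nat.dvd_gcd (orderOf_dvd_of_pow_eq_one h4) (orderOf_dvd_of_pow_eq_one h5)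
    exact orderOf_eq_one_iff.1 (Nat.dvd_one.1 h7)

omit [Finite G] in
theorem conjNormal_inj {Γ : Type*} [Group Γ] (S : Subgroup Γ) [S.Normal] (hc : centralizer (S : Set Γ) = ⊥) :
    Function.Injective (MulAut.conjNormal : Γ →* MulAut S) := by
  rw [injective_iff_map_eq_one]
  intro x hx
  have : x ∈ centralizer (S : Set Γ) := by
    rw [mem_centralizer_iff]
    intro s hs
    have h1 := congrArg (fun α : MulAut S => ((α ⟨s, hs⟩ : S) : Γ)) hx
    simp only [MulAut.conjNormal_apply, MulAut.one_apply] at h1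
    exact (mul_inv_eq_iff_eq_mul.1 h1).symm
  rw [hc] at this
  exact Subgroup.mem_bot.1 this

/-- a power of given order -/
theorem exists_pow_orderOf {Γ : Type*} [Group Γ] [Finite Γ] {g : Γ} {d : ℕ} (hd : d ∣ orderOf g) :
    ∃ k : ℕ, orderOf (g ^ k) = d := by
  obtain ⟨c, hc⟩ := hd
  have hc0 : c ≠ 0 := by
    rintro rfl
    rw [mul_zero] at hc
    exact (orderOf_pos g).ne' hc
  refine ⟨c, ?_⟩
  rw [orderOf_pow_of_dvd hc0 (by rw [hc]; exact Dvd.intro_left _ rfl), hc, Nat.mul_div_cancel _ (Nat.pos_of_ne_zero hc0)]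

/-- Sylow subgroups of the quotient are cyclic -/
theorem cyclic_of (num : Num p m) (h : OkG G p m) (K : Subgroup G) [hKn : K.Normal] (hnil : Group.IsNilpotent K)
    {b s : ℕ} (hb : b.Prime) (hbK : b ∣ Nat.card K) (hs : s.Prime) (hs2 : s ≠ 2) (hsK : ¬ s ∣ Nat.card K)
    (hbad : ∀ k, Ok p m k → ¬ b * s ∣ k) {Q : Type*} [Group Q] [Finite Q] (f : Q →* G ⧸ K) (hf : Function.Injective f)
    (P : Sylow s Q) : IsCyclic P := by
  have hbs : b ≠ s := by rintro rfl; exact hsK hbK
  have hsF := Fact.mk hs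
  set V : Subgroup G := omegaZ K b with hV
  have hVn : V.Normal := omegaZ_normal K b
  let _ : CommGroup V := { (inferInstance : Group V) with
    mul_comm := fun x y => Subtype.ext (y.2.2.1 _ x.2.1) }
  have hnt : Nontrivial V := by
    have := Fact.mk hb
    obtain ⟨z, hz, hzc⟩ := Cfsg.Agent.OddOrderLocal.CNMaxNil.exists_central_orderOf_eq (G := K) b hbK
    refine ⟨⟨⟨(z : G), z.2, fun k hk => ?_, ?_⟩, 1, fun h1 => ?_⟩⟩
    · exact (congrArg Subtype.val (hzc ⟨k, hk⟩)).symm
    · rw [← hz, ← Subgroup.orderOf_coe, pow_orderOf_eq_one]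
    · have h2 : (z : G) = 1 := congrArg Subtype.val h1
      have h3 : z = 1 := Subtype.ext h2
      rw [h3, orderOf_one] at hz
      exact hb.one_lt.ne hz
  -- the action of `G / K` on `V`
  have hker : ∀ k ∈ K, (MulAut.conjNormal k : MulAut V) = 1 := by
    intro k hk
    apply MulEquiv.ext
    intro v
    apply Subtype.ext
    rw [MulAut.conjNormal_apply, MulAut.one_apply]
    exact mul_inv_eq_iff_eq_mul.2 (v.2.2.1 k hk)
  let φ : G ⧸ K →* MulAut V := QuotientGroup.lift K (MulAut.conjNormal : G →* MulAut V) (fun k hk => hker k hk)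
  have hfpf : HasFPF P := by
    refine hasFPF_of ((φ.comp f).comp (P : Subgroup Q).subtype) ?_
    intro a ha v hv
    by_contra hv1
    -- an element of order `s` of `G ⧸ K` fixing `v`
    have hao : orderOf a ≠ 1 := fun h1 => ha (orderOf_eq_one_iff.1 h1)
    have hsa : s ∣ orderOf a := by
      obtain ⟨k, hk⟩ := (IsPGroup.iff_orderOf.1 P.isPGroup') a
      rw [hk]
      rcases Nat.eq_zero_or_pos k with h1 | h1
      · rw [h1, pow_zero] at hk
        exact absurd hk hao
      · exact dvd_pow_self s (by omega)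
    obtain ⟨j, hj⟩ := exists_pow_orderOf hsa
    have hvj : φ (f ((a ^ j : P) : Q)) v = v := by
      have key : ∀ n : ℕ, φ (f ((a ^ n : P) : Q)) v = v := by
        intro n
        induction n with
        | zero => rw [pow_zero, Subgroup.coe_one, map_one, map_one, MulAut.one_apply]
        | succ n ih =>
          rw [pow_succ, Subgroup.coe_mul, map_mul, map_mul, MulAut.mul_apply]
          have : φ (f (a : Q)) v = v := hv
          rw [this, ih]
      exact key j
    obtain ⟨x, hx⟩ := QuotientGroup.mk'_surjective K (f ((a ^ j : P) : Q))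
    have hxo : orderOf (QuotientGroup.mk' K x) = s := by
      rw [hx, orderOf_injective f hf, Subgroup.orderOf_coe, hj]
    have hxv : x * (v : G) * x⁻¹ = v := by
      rw [← hx] at hvj
      exact congrArg Subtype.val hvj
    have hc : Commute x (v : G) := mul_inv_eq_iff_eq_mul.1 hxv
    -- an element of order divisible by `b s`
    have hsx : s ∣ orderOf x := by rw [← hxo]; exact orderOf_map_dvd _ x
    obtain ⟨i, hi⟩ := exists_pow_orderOf hsx
    have hvb : orderOf (v : G) = b := by
      have := Fact.mk hb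
      refine orderOf_eq_prime v.2.2.2 fun h1 => hv1 (Subtype.ext h1)
    have hcop : (orderOf (v : G)).Coprime (orderOf (x ^ i)) := by
      rw [hvb, hi]
      exact (Nat.coprime_primes hb hs).2 hbs
    have h1 := (hc.pow_left i).symm.orderOf_mul_eq_mul_orderOf_of_coprime hcop
    rw [hvb, hi] at h1
    exact hbad _ (h ((v : G) * x ^ i)) (by rw [h1])
  rcases hfpf.cyclic_or_quaternion hs P.isPGroup' with h1 | ⟨h1, -⟩
  · exact h1
  · exact absurd h1 hs2

/-- **The reduction, for given `K` and `S`.** -/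
theorem frame_of (num : Num p m) (h : OkG G p m) (hexp : ∃ g : G, orderOf g = p)
    (hexn : ∃ g : G, orderOf g = nn (p ^ m)) (hexm : ∃ g : G, orderOf g = mm (p ^ m))
    (hns : ¬ Group.IsSolvable G) (K : Subgroup G) [K.Normal] (hK : Group.IsSolvable K)
    (S : Subgroup (G ⧸ K)) [S.Normal] (hsim : IsSimpleGroup ↥S) (hna : ¬ IsMulCommutative ↥S)
    (hcent : centralizer (S : Set (G ⧸ K)) = ⊥) (hpS : ¬ p ∣ S.index)
    (hone : ∀ a b : ℕ, a.Prime → a ≠ 2 → a ∣ mm (p ^ m) → b.Prime → b ∣ nn (p ^ m) →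
      ¬ (p ∣ Nat.card K * S.index ∧ b ∣ Nat.card K * S.index) ∧
      ¬ (a ∣ Nat.card K * S.index ∧ b ∣ Nat.card K * S.index)) : Fr G p m K S := by
  obtain ⟨y, hy⟩ := hexn
  obtain ⟨w, hw⟩ := hexm
  obtain ⟨a₀, ha₀, ha₀2, ha₀m⟩ := num.exists_odd_prime
  -- `p ∤ |K|`
  have hpK : ¬ p ∣ Nat.card K := by
    refine not_dvd_radical num h K hK hns hy fun hpK => ?_
    apply Nat.coprime_of_dvd
    intro b hb hbn hbK
    exact (hone a₀ b ha₀ ha₀2 ha₀m hb hbn).1 ⟨hpK.mul_right _, hbK.mul_right _⟩
  have hnil := nilpotent_of num h hexp K hK hpK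
  have hinj := conjNormal_inj S hcent
  have hord : ∀ x : G ⧸ K, orderOf (MulAut.conjNormal x : MulAut S) = orderOf x := fun x =>
    orderOf_injective (MulAut.conjNormal : G ⧸ K →* MulAut S) hinj x
  have hcard : Nat.card G = Nat.card S * (Nat.card K * S.index) := by
    rw [Subgroup.card_eq_card_quotient_mul_card_subgroup K, ← Subgroup.card_mul_index S]
    ring
  refine ⟨hsim, hna, hcent, hnil, hpK, hpS, ⟨num.hp, num.hp2, num.hm, num.h9, ?_, ?_, ?_, ?_⟩⟩
  · -- `p ∣ |S|`
    obtain ⟨x, hx⟩ := hexp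
    have h1 : p ∣ Nat.card G := by rw [← hx]; exact orderOf_dvd_natCard x
    rw [hcard] at h1
    rcases num.hp.dvd_mul.1 h1 with h2 | h2
    · exact h2
    · rcases num.hp.dvd_mul.1 h2 with h3 | h3
      · exact absurd h3 hpK
      · exact absurd h3 hpS
  · intro g
    refine ⟨(g : G ⧸ K), ?_⟩
    apply MulEquiv.ext
    intro x
    apply Subtype.ext
    rw [MulAut.conjNormal_apply]
    rfl
  · rintro _ ⟨x, rfl⟩
    rw [hord]
    exact h.quot K x
  · by_cases hB : ∃ b : ℕ, b.Prime ∧ b ∣ nn (p ^ m) ∧ b ∣ Nat.card K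
    · obtain ⟨b, hb, hbn, hbK⟩ := hB
      right
      have hA : ∀ a : ℕ, a.Prime → a ≠ 2 → a ∣ mm (p ^ m) → ¬ a ∣ Nat.card K := fun a ha ha2 ham haK =>
        (hone a b ha ha2 ham hb hbn).2 ⟨haK.mul_right _, hbK.mul_right _⟩
      refine ⟨?_, ?_⟩
      · -- the element of order `mm q`
        set o := orderOf (QuotientGroup.mk' K w) with ho
        have hwo : w ^ o ∈ K := by
          have h1 : (QuotientGroup.mk' K) (w ^ o) = 1 := by rw [map_pow, ho, pow_orderOf_eq_one]
          exact (QuotientGroup.eq_one_iff _).1 h1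
        have hodvd : o ∣ mm (p ^ m) := by rw [← hw]; exact orderOf_map_dvd _ w
        obtain ⟨k, hk⟩ := hodvd
        have hmpos : 0 < mm (p ^ m) := by rw [← hw]; exact orderOf_pos w
        have hopos : 0 < o := Nat.pos_of_ne_zero fun h1 => by rw [h1, zero_mul] at hk; omega
        have hkpos : 0 < k := Nat.pos_of_ne_zero fun h1 => by rw [h1, mul_zero] at hk; omega
        have hko : orderOf (w ^ o) = k := by
          rw [orderOf_pow_of_dvd hopos.ne' (by rw [hw, hk]; exact Dvd.intro _ rfl), hw, hk, Nat.mul_div_cancel_left _ hopos]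
        have hkK : k ∣ Nat.card K := by
          rw [← hko, ← Subgroup.orderOf_mk (w ^ o) hwo]
          exact orderOf_dvd_natCard _
        have hk2 : ∀ {d : ℕ}, d.Prime → d ∣ k → d = 2 := by
          intro d hd hdk
          by_contra hd2
          exact hA d hd hd2 (by rw [hk]; exact hdk.mul_left _) (hdk.trans hkK)
        have hk4 : ¬ 4 ∣ k := by
          intro h4
          obtain ⟨i, hi⟩ := exists_pow_orderOf (g := (⟨w ^ o, hwo⟩ : K)) (d := 4) (by rw [Subgroup.orderOf_mk, hko]; exact h4)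
          have := Fact.mk hb
          obtain ⟨c, hc⟩ := exists_prime_orderOf_dvd_card' (G := K) b hbK
          have hb2 : b ≠ 2 := by
            rintro rfl
            have := nn_odd num.odd
            omega
          have hcop : (orderOf c).Coprime (orderOf ((⟨w ^ o, hwo⟩ : K) ^ i)) := by
            rw [hc, hi, show (4 : ℕ) = 2 ^ 2 from rfl]
            exact Nat.Coprime.pow_right 2 ((Nat.coprime_primes hb Nat.prime_two).2 hb2)
          have hcomm : Commute c ((⟨w ^ o, hwo⟩ : K) ^ i) :=
            Cfsg.Agent.OddOrderLocal.CNBasic.commute_of_coprime_orderOf hcop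
          have h1 := hcomm.orderOf_mul_eq_mul_orderOf_of_coprime hcop
          rw [hc, hi] at h1
          exact num.not_mul hb hbn (by norm_num) (by norm_num) (four_dvd_mm num.odd) (h.sub K _) (by rw [h1])
        have hk12 : k = 1 ∨ k = 2 := by
          have h1 : k = 2 ^ k.primeFactorsList.length := Nat.eq_prime_pow_of_unique_prime_dvd hkpos.ne' hk2
          set e := k.primeFactorsList.length with he
          have he2 : e < 2 := by
            by_contra hcon
            apply hk4
            rw [h1, show (4 : ℕ) = 2 ^ 2 from rfl]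
            exact pow_dvd_pow 2 (by omega)
          interval_cases e
          · left; rw [h1, pow_zero]
          · right; rw [h1, pow_one]
        refine ⟨_, ⟨QuotientGroup.mk' K w, rfl⟩, ?_⟩
        rw [hord, ← ho]
        rcases hk12 with h1 | h1
        · left; rw [hk, h1, mul_one]
        · right; rw [hk, h1, mul_comm]
      · intro s hs hsm P
        have hs2 : s ≠ 2 := by
          rcases hsm with h1 | h1
          · rw [h1]; exact num.hp2
          · exact h1.1
        refine cyclic_of num h K hnil hb hbK hs hs2 ?_ ?_ S.subtype S.subtype_injective P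
        · rcases hsm with h1 | ⟨h1, h2⟩
          · rw [h1]; exact hpK
          · exact hA s hs h1 h2
        · intro k hk hbs
          rcases hsm with h1 | ⟨h1, h2⟩
          · rw [h1] at hbs
            exact num.not_adj hb.two_le (hk.of_dvd (by rwa [mul_comm] at hbs))
          · exact num.not_mul hb hbn hs.one_lt.ne' h1 h2 hk hbs
    · left
      push Not at hB
      refine ⟨_, ⟨QuotientGroup.mk' K y, rfl⟩, ?_⟩
      rw [hord, orderOf_mk_of_coprime K y, hy]
      rw [hy]
      apply Nat.coprime_of_dvd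
      intro b hb hbn hbK
      exact hB b hb hbn hbK

end

end Cfsg.Agent.H369.Pgl
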