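import Cfsg.Agent.H369.PglSit

/-!
# Arithmetic for the recognition of `PGL_2(q)` (helper369)

* `Num p m` : `p` an odd prime, `m ≥ 2`, `p ^ m ≠ 9`;
* `Ok p m k` : `k` is an element order of `PGL_2(p ^ m)`;
* `Num.exists_odd_prime` : `mm (p ^ m)` has an odd prime divisor.
-/

set_option autoImplicit false

namespace Cfsg.Agent.H369.Pgl

/-- `p` an odd prime, `m ≥ 2`, `p ^ m ≠ 9` -/
structure Num (p m : ℕ) : Prop where
  hp : p.Prime
  hp2 : p ≠ 2
  hm : 2 ≤ m
  h9 : p ^ m ≠ 9

/-- the element orders of `PGL_2(p ^ m)` -/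
def Ok (p m k : ℕ) : Prop := k ∣ p ∨ k ∣ p ^ m - 1 ∨ k ∣ p ^ m + 1

theorem Ok.of_dvd {p m k l : ℕ} (h : Ok p m k) (hl : l ∣ k) : Ok p m l := by
  rcases h with h | h | h
  · exact Or.inl (hl.trans h)
  · exact Or.inr (Or.inl (hl.trans h))
  · exact Or.inr (Or.inr (hl.trans h))

namespace Num

variable {p m : ℕ} (H : Num p m)
include H

theorem odd : p ^ m % 2 = 1 := by
  have h : Odd (p ^ m) := (H.hp.odd_of_ne_two H.hp2).pow
  exact Nat.odd_iff.1 h

theorem three_le : 3 ≤ p := by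
  have h1 := H.hp.two_le
  have h2 := H.hp2
  omega

theorem dvd_q : p ∣ p ^ m := dvd_pow_self p (by have := H.hm; omega)

theorem le_q : 25 ≤ p ^ m := by
  have h3 := H.three_le
  by_cases h5 : 5 ≤ p
  · calc 25 = 5 ^ 2 := rfl
      _ ≤ p ^ 2 := Nat.pow_le_pow_left h5 2
      _ ≤ p ^ m := Nat.pow_le_pow_right H.hp.pos H.hm
  · have h4 : p = 3 := by
      have : p ≠ 4 := by
        intro h
        have := H.hp
        rw [h] at this
        exact absurd this (by decide)
      omega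
    have hm3 : 3 ≤ m := by
      have := H.hm
      have h9 := H.h9
      by_contra hcon
      have h2 : m = 2 := by omega
      rw [h4, h2] at h9
      exact h9 rfl
    rw [h4]
    calc 25 ≤ 3 ^ 3 := by norm_num
      _ ≤ 3 ^ m := Nat.pow_le_pow_right (by norm_num) hm3

theorem le_nn : 12 ≤ nn (p ^ m) := by
  have h1 := le_two_nn H.odd
  have h2 := H.le_q
  omega

theorem not_dvd_sub : ¬ p ∣ p ^ m - 1 := by
  intro h
  have hq := H.le_q
  have h1 : p ∣ p ^ m - (p ^ m - 1) := Nat.dvd_sub H.dvd_q h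
  have h2 : p ^ m - (p ^ m - 1) = 1 := by omega
  rw [h2] at h1
  exact H.hp.one_lt.ne' (Nat.dvd_one.1 h1)

theorem not_dvd_add : ¬ p ∣ p ^ m + 1 := by
  intro h
  exact H.hp.one_lt.ne' (Nat.dvd_one.1 ((Nat.dvd_add_right H.dvd_q).1 h))

theorem not_dvd_nn : ¬ p ∣ nn (p ^ m) := by
  intro h
  rcases two_nn_mm H.odd with ⟨h1, -⟩ | ⟨h1, -⟩
  · exact H.not_dvd_add (by rw [← h1]; exact h.mul_left 2)
  · exact H.not_dvd_sub (by rw [← h1]; exact h.mul_left 2)

theorem not_dvd_mm : ¬ p ∣ mm (p ^ m) := by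
  intro h
  rcases two_nn_mm H.odd with ⟨-, h1⟩ | ⟨-, h1⟩
  · exact H.not_dvd_sub (by rw [← h1]; exact h)
  · exact H.not_dvd_add (by rw [← h1]; exact h)

/-- `p` is isolated of exponent `p` -/
theorem iso {k : ℕ} (h : Ok p m k) (hpk : p ∣ k) : k = p := by
  rcases h with h | h | h
  · exact Nat.dvd_antisymm h hpk
  · exact absurd (hpk.trans h) H.not_dvd_sub
  · exact absurd (hpk.trans h) H.not_dvd_add

theorem not_adj {r : ℕ} (hr : 2 ≤ r) (h : Ok p m (p * r)) : False := by
  have h1 := H.iso h (Dvd.intro _ rfl)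
  have h3 := H.hp.pos
  nlinarith

theorem cases {k : ℕ} (h : Ok p m k) : k ∣ p ∨ k ∣ mm (p ^ m) ∨ k ∣ 2 * nn (p ^ m) := by
  rcases h with h | h | h
  · exact Or.inl h
  · rcases two_nn_mm H.odd with ⟨h1, h2⟩ | ⟨h1, h2⟩
    · right; left; rwa [h2]
    · right; right; rwa [h1]
  · rcases two_nn_mm H.odd with ⟨h1, h2⟩ | ⟨h1, h2⟩
    · right; right; rwa [h1]
    · right; left; rwa [h2]

theorem not_mul {s r k : ℕ} (hs : s.Prime) (hsn : s ∣ nn (p ^ m)) (hr1 : r ≠ 1) (hr2 : r ≠ 2)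
    (hr : r ∣ mm (p ^ m)) (hk : Ok p m k) (h : s * r ∣ k) : False := by
  have hodd := nn_odd H.odd
  have hcop := coprime_nn_mm H.odd
  have hsr : s ∣ k := (Dvd.intro _ rfl).trans h
  have hrr : r ∣ k := (Dvd.intro_left _ rfl).trans h
  have hs1 : s ≠ 1 := hs.one_lt.ne'
  rcases H.cases hk with h1 | h1 | h1
  · have h2 := (Nat.prime_dvd_prime_iff_eq hs H.hp).1 (hsr.trans h1)
    rw [h2] at hsn
    exact H.not_dvd_nn hsn
  · exact hs1 (Nat.eq_one_of_dvd_coprimes hcop hsn (hsr.trans h1))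
  · have h2 : r ∣ 2 * nn (p ^ m) := hrr.trans h1
    have h3 : r.Coprime (nn (p ^ m)) := (Nat.Coprime.coprime_dvd_left hr hcop.symm)
    have h4 : r ∣ 2 := h3.dvd_of_dvd_mul_right h2
    rcases (Nat.dvd_prime Nat.prime_two).1 h4 with h5 | h5
    · exact hr1 h5
    · exact hr2 h5

theorem exists_prime_nn : ∃ b : ℕ, b.Prime ∧ b ∣ nn (p ^ m) := by
  have := H.le_nn
  exact Nat.exists_prime_and_dvd (by omega)

theorem nn_ne_fifteen : nn (p ^ m) ≠ 15 := by
  intro h
  have key : ∀ r : ℕ, r.Prime → p ^ m = r → False := by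
    intro r hr hrq
    have h1 : p ∣ r := by rw [← hrq]; exact H.dvd_q
    have h2 := (Nat.prime_dvd_prime_iff_eq H.hp hr).1 h1
    rw [← h2] at hrq
    have h3 : p ^ 2 ≤ p ^ m := Nat.pow_le_pow_right H.hp.pos H.hm
    have h4 := H.three_le
    nlinarith
  rcases two_nn_mm H.odd with ⟨h1, -⟩ | ⟨h1, -⟩
  · exact key 29 (by norm_num) (by omega)
  · exact key 31 (by norm_num) (by omega)

/-- `mm q` is not a power of two -/
theorem exists_odd_prime : ∃ a : ℕ, a.Prime ∧ a ≠ 2 ∧ a ∣ mm (p ^ m) := by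
  by_contra hcon
  push Not at hcon
  have hq := H.le_q
  have h3 := H.three_le
  have hodd : Odd p := H.hp.odd_of_ne_two H.hp2
  have hmm0 : mm (p ^ m) ≠ 0 := by
    have := le_mm H.odd
    omega
  have h2 : ∀ {d : ℕ}, d.Prime → d ∣ mm (p ^ m) → d = 2 := by
    intro d hd hdm
    by_contra hne
    exact hcon d hd hne hdm
  obtain ⟨c, hc⟩ : ∃ c, mm (p ^ m) = 2 ^ c := ⟨_, Nat.eq_prime_pow_of_unique_prime_dvd hmm0 h2⟩
  -- an odd divisor is 1
  have hone : ∀ d : ℕ, Odd d → d ∣ mm (p ^ m) → d = 1 := by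
    intro d hd hdm
    rw [hc] at hdm
    obtain ⟨e, -, he⟩ := (Nat.dvd_prime_pow Nat.prime_two).1 hdm
    rcases Nat.eq_zero_or_pos e with h | h
    · rw [he, h, pow_zero]
    · exfalso
      rw [he] at hd
      have h5 : Even (2 ^ e) := (Nat.even_pow.2 ⟨even_two, by omega⟩)
      exact (Nat.not_even_iff_odd.2 hd) h5
  rcases Nat.even_or_odd m with hev | hod
  · -- `m` even: `q = 1 mod 4`
    obtain ⟨k, hk⟩ := hev
    have hqk : p ^ m = p ^ k * p ^ k := by rw [hk, pow_add]
    have hk1 : 1 ≤ k := by have := H.hm; omega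
    obtain ⟨t, ht⟩ : ∃ t, p ^ k = 2 * t + 1 := hodd.pow
    have h4 : p ^ m % 4 = 1 := by
      rw [hqk, ht]
      have : (2 * t + 1) * (2 * t + 1) = 4 * (t * t + t) + 1 := by ring
      omega
    have hmm : mm (p ^ m) = p ^ m - 1 := by unfold mm; rw [if_pos h4]
    rw [hmm] at hc
    have hfac : 2 ^ c = (2 * t) * (2 * t + 2) := by
      rw [← hc, hqk, ht]
      have : (2 * t + 1) * (2 * t + 1) = (2 * t) * (2 * t + 2) + 1 := by ring
      omega
    have hd1 : t ∣ 2 ^ c := by rw [hfac]; exact ⟨2 * (2 * t + 2), by ring⟩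
    have hd2 : t + 1 ∣ 2 ^ c := by rw [hfac]; exact ⟨2 * (2 * t), by ring⟩
    rw [← hc, ← hmm] at hd1 hd2
    have ht1 : 1 ≤ t := by
      rcases Nat.eq_zero_or_pos t with h | h
      · rw [h] at ht
        have : p ^ 1 ≤ p ^ k := Nat.pow_le_pow_right H.hp.pos hk1
        rw [pow_one] at this
        omega
      · exact h
    rcases Nat.even_or_odd t with h5 | h5
    · have := hone (t + 1) h5.add_one hd2
      omega
    · have h6 := hone t h5 hd1
      rw [h6] at ht
      have : p ^ m = 9 := by rw [hqk, ht]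
      exact H.h9 this
  · -- `m` odd
    have hm3 : 3 ≤ m := by
      obtain ⟨k, hk⟩ := hod
      have := H.hm
      omega
    obtain ⟨k, hk⟩ := hod
    have hpm : p ^ m = p * (p ^ k * p ^ k) := by
      rw [hk, pow_succ, two_mul, pow_add]; ring
    have hlt : p < p ^ m := by
      calc p = p ^ 1 := (pow_one p).symm
        _ < p ^ m := Nat.pow_lt_pow_right H.hp.one_lt (by omega)
    rcases two_nn_mm H.odd with ⟨-, h1⟩ | ⟨-, h1⟩
    · -- `p ^ m - 1 = (p - 1) * odd`
      obtain ⟨t, ht⟩ : ∃ t, t = ∑ i ∈ Finset.range m, p ^ i := ⟨_, rfl⟩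
      have hgeom : t * (p - 1) = p ^ m - 1 := by
        obtain ⟨w, hw⟩ : ∃ w, p = w + 1 := ⟨p - 1, by omega⟩
        have h := geom_sum_mul_add w m
        rw [ht, hw, Nat.add_sub_cancel]
        omega
      have htodd : Odd t := by
        rw [ht, Finset.odd_sum_iff_odd_card_odd]
        have : (Finset.range m).filter (fun i => Odd (p ^ i)) = Finset.range m := by
          apply Finset.filter_true_of_mem
          intro i _
          exact hodd.pow
        rw [this, Finset.card_range]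
        exact ⟨k, hk⟩
      have h5 := hone t htodd (by rw [h1, ← hgeom]; exact Dvd.intro _ rfl)
      rw [h5, one_mul] at hgeom
      omega
    · -- `p ^ m + 1 = (p + 1) * odd`
      have hdvd : p + 1 ∣ p ^ m + 1 := by
        have := Odd.nat_add_dvd_pow_add_pow p 1 (n := m) ⟨k, hk⟩
        rwa [one_pow] at this
      obtain ⟨t, ht⟩ := hdvd
      have htodd : Odd t := by
        -- `p ^ m + 1 = (p + 1) * t`; modulo `2 (p + 1)`
        have h6 : p ^ k * p ^ k % (2 * (p + 1)) = 1 := by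
          obtain ⟨u, hu⟩ : 2 * (p + 1) ∣ p ^ k * p ^ k - 1 := by
            have h7 : p ^ 2 - 1 ∣ (p ^ 2) ^ k - 1 := by
              have := Nat.sub_dvd_pow_sub_pow (p ^ 2) 1 k
              rwa [one_pow] at this
            obtain ⟨v, hv⟩ : 2 ∣ p - 1 := by
              obtain ⟨w, hw⟩ := hodd
              exact ⟨w, by omega⟩
            have h8 : 2 * (p + 1) ∣ p ^ 2 - 1 := ⟨v, by
              have := Nat.sq_sub_sq p 1
              rw [one_pow, hv] at this
              rw [this]; ring⟩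
            have h9 : (p ^ 2) ^ k = p ^ k * p ^ k := by rw [← pow_mul, two_mul, pow_add]
            rw [h9] at h7
            exact h8.trans h7
          have hpos : 1 ≤ p ^ k * p ^ k := Nat.mul_pos (Nat.pow_pos H.hp.pos) (Nat.pow_pos H.hp.pos)
          have h10 : p ^ k * p ^ k = 1 + 2 * (p + 1) * u := by omega
          rw [h10, Nat.add_mul_mod_self_left]
          exact Nat.mod_eq_of_lt (by omega)
        rw [hpm] at ht
        have h11 := Nat.div_add_mod (p ^ k * p ^ k) (2 * (p + 1))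
        rw [h6] at h11
        set w := p ^ k * p ^ k / (2 * (p + 1)) with hw
        have h12 : (p + 1) * t = (p + 1) * (2 * (p * w) + 1) := by
          rw [← ht, ← h11]; ring
        have h13 : t = 2 * (p * w) + 1 := Nat.eq_of_mul_eq_mul_left (by omega) h12
        exact ⟨p * w, h13⟩
      have h5 := hone t htodd (by rw [h1, ht]; exact Dvd.intro_left _ rfl)
      rw [h5, mul_one] at ht
      omega

end Num

end Cfsg.Agent.H369.Pgl
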