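import Cfsg.Agent.H369.PglPslTwo
import Cfsg.Agent.H372.PglPsl
import Cfsg.Agent.H372.PglPsu
import Cfsg.Agent.H421.PglSp
import Cfsg.Agent.H421.PglOOdd
import Cfsg.Agent.H424.PglOrth
import Cfsg.Agent.H107.PglExcRows
import Cfsg.Agent.H107.PglExcE67
import Cfsg.Agent.H991.PglAdj3
import Cfsg.Agent.H991.PglTwelve
import Cfsg.Agent.H659.PglTwF4
import Cfsg.Agent.H564.PglG
import Cfsg.Agent.H564.PglD4
import Cfsg.Agent.H564.PglE6
import Cfsg.Agent.H724.PglAlt
import Cfsg.Agent.H783.PglSpor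

/-!
# The rows of the recognition of `PGL_2(q)` (helper369)

`rows` : a known simple group in the situation `Sit` is `PSL_2(p ^ k)`. The rows were proved by helpers 372, 421, 424, 107,
991, 659, 564, 724, 783.
-/

set_option autoImplicit false

namespace Cfsg.Agent.H369.Pgl

open Cfsg

variable {S : Type*} [Group S] [Finite S] [IsSimpleGroup S] (hna : ¬ IsMulCommutative S) {p m : ℕ}
  {X : Subgroup (MulAut S)} (H : Sit S p m X)
include hna H

/-- the exceptional groups -/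
theorem rows_exc (h : IsExceptionalLieType S) : False := by
  rcases h with h | h | h | h | h | h | h | h | h | h | h
  · obtain ⟨F, _, _, hq, ⟨e⟩⟩ := h
    exact H107.PglExc.row_g2 hna H hq e (fun r hr hd => by
      simpa using H991.PglAdj3.adj3_G2 F hr hd) (H991.PglTwelve.twelve_G2 F) (H991.PglTwelve.sylow_G2 F)
  · obtain ⟨F, _, _, ⟨e⟩⟩ := h
    exact H107.PglExc.row_f4 hna H e (fun r hr hd => by
      simpa using H991.PglAdj3.adj3_F4 F hr hd) (H991.PglTwelve.twelve_F4 F) (H991.PglTwelve.sylow_F4 F)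
  · obtain ⟨F, _, _, ⟨e⟩⟩ := h
    exact H107.PglExc.row_e6 hna H e (fun r hr hd => by
      simpa using H991.PglAdj3.adj3_E6 F hr hd) (H991.PglTwelve.twelve_E6 F) (H991.PglTwelve.sylow_E6 F)
  · obtain ⟨F, _, _, ⟨e⟩⟩ := h
    exact H107.PglExc.row_e7 hna H e
  · obtain ⟨F, _, _, ⟨e⟩⟩ := h
    exact H107.PglExc.row_e8 hna H e (fun r hr hd => by
      simpa using H991.PglAdj3.adj3_E8 F hr hd) (H991.PglTwelve.twelve_E8 F) (H991.PglTwelve.sylow_E8 F)
  · exact H564.PglE6.row_te6' hna H h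
  · exact H564.PglD4.row_td4' hna H h
  · exact H564.PglG.row_sz hna H h
  · exact H564.PglG.row_ree hna H h
  · obtain ⟨K, _, _, n, hn, hK, ⟨e⟩⟩ := h
    have hs : IsSimpleGroup ↥(Lie.twistedF4 K (2 ^ n)) := e.symm.isSimpleGroup
    have hna' : ¬ IsMulCommutative ↥(Lie.twistedF4 K (2 ^ n)) := by
      intro h1
      apply hna
      refine ⟨⟨fun a b => ?_⟩⟩
      apply e.injective
      rw [map_mul, map_mul]
      exact h1.1.1 _ _
    exact H659.PglTwF4.row hn hK hna' (H.congr e)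
  · exact H783.PglSpor.row_spor hna H (Or.inr h)

/-- **The rows.** -/
theorem rows (h : IsKnownSimple' S) : Goal4 S p := by
  rcases h with h | h | h | h | h | h | h | h | h | h
  · exfalso
    apply hna
    have : Fact (Nat.card S).Prime := ⟨h⟩
    have : IsCyclic S := isCyclic_of_prime_card (p := Nat.card S) rfl
    exact ⟨⟨fun a b => (IsCyclic.isMulCommutative (α := S)).is_comm.comm a b⟩⟩
  · obtain ⟨n, hn, ⟨e⟩⟩ := h
    rcases Nat.lt_or_ge n 7 with h7 | h7
    · have h56 : n = 5 ∨ n = 6 := by omega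
      rcases h56 with rfl | rfl
      · exact row_alt5 hna H e
      · exact row_alt6 hna H e
    · exact (H724.PglAlt.row_alt hna H h7 e).elim
  · obtain ⟨F, _, _, n, hn, hn2, ⟨e⟩⟩ := h
    rcases Nat.lt_or_ge n 3 with h3 | h3
    · have h2 : n = 2 := by omega
      subst h2
      exact row_psl2 hna H (hn2 rfl) e
    · by_cases h32 : n = 3 ∧ Fintype.card F = 2
      · obtain ⟨rfl, hF⟩ := h32
        exact row_psl32 hna H hF e
      · exact (H372.PglPsl.row_psl hna H h3 h32 e).elim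
  · obtain ⟨F, _, _, n, hn, hn2, ⟨e⟩⟩ := h
    exact (H421.PglSp.row_psp hna H hn hn2 e).elim
  · obtain ⟨F, _, _, n, u, hF, hn, hn2, ⟨e⟩⟩ := h
    exact (H372.PglPsu.row_psu hna H hF hn hn2 e).elim
  · obtain ⟨F, _, _, n, hn, hodd, ⟨e⟩⟩ := h
    exact (H421.PglOOdd.row_oodd hna H hn hodd e).elim
  · obtain ⟨F, _, _, n, hn, ⟨e⟩⟩ := h
    exact (H424.PglOrth.row_oplus hna H hn e).elim
  · obtain ⟨F, _, _, n, a, b, hn, hab, ⟨e⟩⟩ := h
    exact (H424.PglOrth.row_ominus hna H hn hab e).elim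
  · exact (rows_exc hna H h).elim
  · exact (H783.PglSpor.row_spor hna H (Or.inl h)).elim

end Cfsg.Agent.H369.Pgl
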